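/-
Symmetric groups, part 1: the power sum polynomial of a permutation, complete symmetric functions, Jacobi-Trudi.
-/
import Cfsg.Agent.Char.Prod

set_option autoImplicit false
set_option linter.unusedSectionVars false
open Finset Equiv Equiv.Perm Matrix
open scoped Nat

namespace CL.Sym

variable {α ι κ A : Type*} [Fintype α] [DecidableEq α] [Fintype ι] [DecidableEq ι] [Fintype κ] [DecidableEq κ]
  [CommRing A]

/-- the sizes of the fibres. -/
def cont (f : α → ι) (i : ι) : ℕ := #{a | f a = i}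

/-- the number of colourings with content `γ` fixed by `g`. -/
def Nf (γ : ι → ℕ) (g : Perm α) : ℕ := #{f : α → ι | f ∘ g = f ∧ cont f = γ}

/-- a monomial. -/
def mon (z : ι → A) (γ : ι → ℕ) : A := ∏ i, z i ^ γ i

/-- the power sum polynomial of `g`. -/
def Pz (z : ι → A) (g : Perm α) : A := ∑ f : α → ι with f ∘ g = f, ∏ a, z (f a)

/-- power sums. -/
def ps (z : ι → A) (m : ℕ) : A := ∑ i, z i ^ m

/-- complete symmetric functions. -/
def Hs (z : ι → A) (n : ℕ) : A := ∑ γ ∈ piAntidiag univ n, mon z γ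

theorem mon_add (z : ι → A) (β γ : ι → ℕ) : mon z (β + γ) = mon z β * mon z γ := by
  simp [mon, pow_add, prod_mul_distrib]

theorem mon_single (z : ι → A) (j : ι) (m : ℕ) : mon z (Pi.single j m) = z j ^ m := by
  rw [mon, prod_eq_single j (fun i _ h => by simp [h]) (by simp), Pi.single_eq_same]

theorem map_mon {B F : Type*} [CommRing B] [FunLike F A B] [RingHomClass F A B] (ψ : F) (z : ι → A) (γ : ι → ℕ) :
    ψ (mon z γ) = mon (ψ ∘ z) γ := by simp [mon]

theorem map_Pz {B F : Type*} [CommRing B] [FunLike F A B] [RingHomClass F A B] (ψ : F) (z : ι → A) (g : Perm α) :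
    ψ (Pz z g) = Pz (ψ ∘ z) g := by simp [Pz]

theorem map_Hs {B F : Type*} [CommRing B] [FunLike F A B] [RingHomClass F A B] (ψ : F) (z : ι → A) (n : ℕ) :
    ψ (Hs z n) = Hs (ψ ∘ z) n := by simp [Hs, map_mon]

theorem prod_eq_mon (z : ι → A) (f : α → ι) : ∏ a, z (f a) = mon z (cont f) := by
  rw [← prod_fiberwise' univ f z]; simp [mon, cont]

theorem sum_cont (f : α → ι) : ∑ i, cont f i = Fintype.card α :=
  (card_eq_sum_card_fiberwise (f := f) (s := univ) (t := univ) fun _ _ => mem_univ _).symm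

theorem Nf_eq_zero {γ : ι → ℕ} (h : ∑ i, γ i ≠ Fintype.card α) (g : Perm α) : Nf γ g = 0 :=
  card_eq_zero.2 (filter_eq_empty_iff.2 fun f _ hf => h (hf.2 ▸ sum_cont f))

theorem Pz_eq (z : ι → A) (g : Perm α) : Pz z g = ∑ γ ∈ piAntidiag univ (Fintype.card α), Nf γ g • mon z γ := by
  rw [Pz, ← sum_fiberwise_of_maps_to (g := cont) (t := piAntidiag univ (Fintype.card α)) fun f _ => by simp [sum_cont]]
  refine sum_congr rfl fun γ _ => ?_
  rw [Nf, ← filter_filter, ← sum_const]
  exact sum_congr rfl fun f hf => by rw [prod_eq_mon, (mem_filter.1 hf).2]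

theorem cont_comp (f : α → ι) (g : Perm α) : cont (f ∘ g) = cont f := funext fun i =>
  card_equiv g fun a => by simp

/-- colourings with given content. -/
def Col (α : Type*) [Fintype α] (γ : ι → ℕ) : Type _ := {f : α → ι // cont f = γ}

instance (γ : ι → ℕ) : Finite (Col α γ) := inferInstanceAs (Finite {f : α → ι // cont f = γ})

instance (γ : ι → ℕ) : MulAction (Perm α) (Col α γ) where
  smul g f := ⟨f.1 ∘ ⇑g⁻¹, (cont_comp _ _).trans f.2⟩
  one_smul _ := rfl
  mul_smul _ _ _ := rfl

theorem smul_val {γ : ι → ℕ} (g : Perm α) (f : Col α γ) (a : α) : (g • f).1 a = f.1 (g⁻¹ a) := rfl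

instance (γ : ι → ℕ) : MulAction.IsPretransitive (Perm α) (Col α γ) where
  exists_smul_eq f f' := by
    have h : ∀ i, Fintype.card {a // f.1 a = i} = Fintype.card {a // f'.1 a = i} := fun i => by
      rw [Fintype.card_subtype, Fintype.card_subtype]; exact congrFun (f.2.trans f'.2.symm) i
    let e := Equiv.ofFiberEquiv fun i => Fintype.equivOfCardEq (h i)
    exact ⟨e, Subtype.ext (funext fun a =>
      (Equiv.ofFiberEquiv_map _ (e.symm a)).symm.trans (congrArg f'.1 (e.apply_symm_apply a)))⟩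

theorem card_fixedBy (γ : ι → ℕ) (g : Perm α) : Nat.card (MulAction.fixedBy (Col α γ) g) = Nf γ g := by
  rw [Nf, ← Fintype.card_subtype, ← Nat.card_eq_fintype_card]
  exact Nat.card_congr ⟨fun f => ⟨f.1.1, funext fun a => by
      have := (congrFun (congrArg Subtype.val f.2) (g a) :)
      exact ((congrArg f.1.1 (g.symm_apply_apply a)).symm.trans this).symm, f.1.2⟩,
    fun f => ⟨⟨f.1, f.2.2⟩, Subtype.ext (funext fun a =>
      (congrFun f.2.1 (g⁻¹ a)).symm.trans (congrArg f.1 (g.apply_symm_apply a)))⟩,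
    fun _ => rfl, fun _ => rfl⟩

theorem exists_cont {γ : ι → ℕ} (h : ∑ i, γ i = Fintype.card α) : ∃ f : α → ι, cont f = γ := by
  obtain ⟨e⟩ : Nonempty (α ≃ Σ i, Fin (γ i)) := ⟨Fintype.equivOfCardEq (by simp [h])⟩
  refine ⟨fun a => (e a).1, funext fun i => ?_⟩
  rw [cont, card_equiv e (t := {x | x.1 = i}) fun a => by simp, ← Fintype.card_subtype,
    Fintype.card_congr (Equiv.sigmaSubtype i), Fintype.card_fin]

theorem sum_Nf {γ : ι → ℕ} (h : ∑ i, γ i = Fintype.card α) : ∑ g : Perm α, Nf γ g = (Fintype.card α)! := by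
  obtain ⟨f, hf⟩ := exists_cont h
  have : Nonempty (Col α γ) := ⟨⟨f, hf⟩⟩
  simp only [← card_fixedBy]
  rw [CL.Char.sum_card_fixedBy, CL.Char.card_orbits_of_isPretransitive, one_mul, Nat.card_eq_fintype_card, Fintype.card_perm]

theorem isCharacter_Nf (γ : ι → ℕ) : Cfsg.IsCharacter (Perm α) fun g => (Nf γ g : ℂ) := by
  simpa only [card_fixedBy] using CL.Char.isCharacter_card_fixedBy (G := Perm α) (Col α γ)

theorem sum_Pz (z : ι → A) : ∑ g : Perm α, Pz z g = (Fintype.card α)! • Hs z (Fintype.card α) := by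
  simp only [Pz_eq]
  rw [sum_comm, Hs, smul_sum]
  exact sum_congr rfl fun γ h => by rw [← sum_smul, sum_Nf (mem_piAntidiag.1 h).1]

theorem Pz_prod (y : ι → A) (x : κ → A) (g : Perm α) :
    Pz (fun p : ι × κ => y p.1 * x p.2) g = Pz y g * Pz x g := by
  rw [Pz, Pz, Pz, sum_mul_sum, ← sum_product']
  exact sum_equiv (Equiv.arrowProdEquivProdArrow _ _ _) (fun f => by simp [funext_iff, Prod.ext_iff, forall_and])
    fun f _ => prod_mul_distrib

theorem coeff_prod' (f : ι → PowerSeries A) (d : ℕ) :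
    PowerSeries.coeff d (∏ j, f j) = ∑ γ ∈ piAntidiag univ d, ∏ i, PowerSeries.coeff (γ i) (f i) := by
  rw [PowerSeries.coeff_prod, finsuppAntidiag, sum_map, ← sum_attach (piAntidiag univ d)]
  rfl

theorem prod_mk (z : ι → A) : ∏ i, PowerSeries.mk (z i ^ ·) = PowerSeries.mk (Hs z) := by
  ext d; simp [coeff_prod', Hs, mon]

theorem Hs_zero (z : ι → A) : Hs z 0 = 1 := by simp [Hs, mon]

theorem Hs_mul (c : A) (z : ι → A) (n : ℕ) : Hs (fun i => c * z i) n = c ^ n * Hs z n := by
  rw [Hs, Hs, mul_sum]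
  exact sum_congr rfl fun γ h => by
    rw [← (mem_piAntidiag.1 h).1]; simp [mon, mul_pow, prod_mul_distrib, prod_pow_eq_pow_sum]

theorem Hs_prod (y : ι → A) (x : κ → A) (n : ℕ) : Hs (fun p : ι × κ => y p.1 * x p.2) n =
    ∑ γ ∈ piAntidiag univ n, mon y γ * ∏ i, Hs x (γ i) := by
  have := congrArg (PowerSeries.coeff n) (prod_mk fun p : ι × κ => y p.1 * x p.2)
  rw [PowerSeries.coeff_mk, Fintype.prod_prod_type] at this
  simp only [prod_mk, coeff_prod', PowerSeries.coeff_mk, Hs_mul, prod_mul_distrib] at this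
  exact this.symm

open MvPolynomial

/-- the coefficient of a monomial. -/
noncomputable def cf (β : ι → ℕ) : MvPolynomial ι A →ₗ[A] A := lcoeff A (Finsupp.equivFunOnFinite.symm β)

theorem mon_X (γ : ι → ℕ) : mon (X : ι → MvPolynomial ι A) γ = monomial (Finsupp.equivFunOnFinite.symm γ) 1 := by
  rw [monomial_eq, C_1, one_mul, Finsupp.prod_fintype _ _ (by simp)]; rfl

theorem cf_mul_mon (β γ : ι → ℕ) (f : MvPolynomial ι A) :
    cf β (f * mon X γ) = if ∀ i, γ i ≤ β i then cf (β - γ) f else 0 := by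
  rw [mon_X, cf, lcoeff_apply, coeff_mul_monomial', mul_one]
  exact if_congr Iff.rfl (congrArg (coeff · f) (Finsupp.ext fun _ => rfl)) rfl

theorem cf_mon (β γ : ι → ℕ) : cf β (mon X γ : MvPolynomial ι A) = if γ = β then 1 else 0 := by
  rw [mon_X, cf, lcoeff_apply, coeff_monomial]
  exact if_congr (Equiv.apply_eq_iff_eq _) rfl rfl

theorem cf_ext {f g : MvPolynomial ι A} (h : ∀ β, cf β f = cf β g) : f = g :=
  MvPolynomial.ext _ _ fun m => by simpa [cf] using h m

theorem mon_induction {P : MvPolynomial ι A → Prop} (h1 : ∀ (c : A) γ, P (c • mon X γ))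
    (h2 : ∀ f g, P f → P g → P (f + g)) (f : MvPolynomial ι A) : P f :=
  MvPolynomial.induction_on' f (fun m a => by simpa [mon_X, smul_monomial] using h1 a m) h2

theorem cf_Pz (γ : ι → ℕ) (g : Perm α) : cf γ (Pz X g : MvPolynomial ι A) = Nf γ g := by
  simp only [Pz_eq, map_sum, map_nsmul, cf_mon, smul_ite, smul_zero, sum_ite_eq', nsmul_one]
  split_ifs with h
  · rfl
  · rw [Nf_eq_zero (by simpa using h), Nat.cast_zero]

theorem sum_Nf_smul (z : κ → A) {γ : ι → ℕ} (h : ∑ i, γ i = Fintype.card α) :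
    ∑ g : Perm α, Nf γ g • Pz z g = (Fintype.card α)! • ∏ i, Hs z (γ i) := by
  have := congrArg (cf γ) (sum_Pz (α := α) fun p : ι × κ => (X p.1 * (C ∘ z) p.2 : MvPolynomial ι A))
  simp only [Pz_prod, Hs_prod, ← map_Pz, ← map_Hs, ← map_prod, mul_comm _ (C _), C_mul', map_sum, map_nsmul, map_smul,
    cf_Pz, cf_mon, smul_eq_mul, mul_ite, mul_one, mul_zero, sum_ite_eq'] at this
  simpa [h, mul_comm] using this

/-- the alternant. -/
def alt (z : ι → A) (β : ι → ℕ) : A := det (of fun i k => z k ^ β i)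

theorem alt_eq (z : ι → A) (β : ι → ℕ) : alt z β = ∑ σ : Perm ι, sign σ • mon z (β ∘ σ) := det_apply _

theorem map_alt {B F : Type*} [CommRing B] [FunLike F A B] [RingHomClass F A B] (ψ : F) (z : ι → A) (β : ι → ℕ) :
    ψ (alt z β) = alt (ψ ∘ z) β := by simp [alt_eq, map_mon, Units.smul_def]

theorem alt_comp (z : ι → A) (β : ι → ℕ) (σ : Perm ι) : alt z (β ∘ σ) = sign σ • alt z β :=
  (det_permute σ (of fun i k => z k ^ β i)).trans (by simp [alt, Units.smul_def])

theorem alt_comp' (z : ι → A) (β : ι → ℕ) (σ : Perm ι) : alt (z ∘ σ) β = sign σ • alt z β :=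
  (det_permute' σ (of fun i k => z k ^ β i)).trans (by simp [alt, Units.smul_def])

/-- the entries of the Jacobi-Trudi matrix. -/
def Ht (z : ι → A) (a b : ℕ) : A := if b ≤ a then Hs z (a - b) else 0

/-- Jacobi-Trudi. -/
theorem alt_eq_det_mul {N : ℕ} (z : Fin N → A) (β : Fin N → ℕ) :
    alt z β = det (of fun i (j : Fin N) => Ht z (β i) j) * alt z Fin.val := by
  obtain ⟨E, hE⟩ : ∃ E : Matrix (Fin N) (Fin N) A, ∀ m k, z k ^ m = ∑ j : Fin N, Ht z m j * E j k := by
    let Q : Fin N → Polynomial A := fun k => ∏ i ∈ univ.erase k, (1 - Polynomial.C (z i) * Polynomial.X)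
    refine ⟨fun j k => (Q k).coeff j, fun m k => ?_⟩
    have h1 : (Q k).natDegree < N := (Polynomial.natDegree_prod_le _ _).trans_lt ((sum_le_card_nsmul _ _ 1 fun i _ => by
      compute_degree).trans_lt (by simpa using k.pos))
    have h2 : PowerSeries.mk (Hs z) * (Q k : PowerSeries A) = PowerSeries.mk (z k ^ ·) := by
      rw [← prod_mk, ← mul_prod_erase univ _ (mem_univ k), mul_assoc, ← Polynomial.coeToPowerSeries.ringHom_apply, map_prod,
        ← prod_mul_distrib, prod_eq_one, mul_one]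
      intro i _
      ext (_ | n) <;> simp [mul_sub, ← mul_assoc, PowerSeries.coeff_succ_mul_X, pow_succ]
    have h3 := congrArg (PowerSeries.coeff m) h2
    rw [PowerSeries.coeff_mk, (Q k).as_sum_range' N h1, ← Polynomial.coeToPowerSeries.ringHom_apply, map_sum, mul_sum, map_sum,
      sum_range] at h3
    rw [← h3]
    refine sum_congr rfl fun j _ => ?_
    rw [← Polynomial.C_mul_X_pow_eq_monomial]
    simp [← mul_assoc, PowerSeries.coeff_mul_X_pow', Ht]
  have h1 : ∀ β : Fin N → ℕ, alt z β = det (of fun i (j : Fin N) => Ht z (β i) j) * det E := fun β => by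
    rw [← det_mul, alt]; congr 1; ext i k; simp [Matrix.mul_apply, hE]
  rw [h1, h1 Fin.val, det_of_isLowerTriangular (of fun i j : Fin N => Ht z i j) fun i j h => if_neg (by simpa using h)]
  simp [Ht, Hs_zero]

theorem prod_orb {M : Type*} [CommMonoid M] (g : Perm α) [Fintype (Quotient (SameCycle.setoid g))]
    [DecidableEq (Quotient (SameCycle.setoid g))] (F : ℕ → M) :
    ∏ o : Quotient (SameCycle.setoid g), F #{a | Quotient.mk _ a = o} = (g.partition.parts.map F).prod := by
  have h : ∀ (o : Quotient (SameCycle.setoid g)) a, Quotient.mk _ a = o ↔ SameCycle g o.out a := fun o a =>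
    ⟨fun h => Quotient.exact (o.out_eq.trans h.symm), fun h => (Quotient.sound h).symm.trans o.out_eq⟩
  rw [parts_partition, Multiset.map_add, Multiset.prod_add, Multiset.map_replicate, Multiset.prod_replicate, cycleType_def,
    Multiset.map_map, ← prod_eq_multiset_prod, ← prod_filter_mul_prod_filter_not univ (fun o => o.out ∈ g.support),
    ← card_compl, ← prod_const]
  congr 1
  · refine prod_bij (fun o _ => g.cycleOf o.out) (fun o ho => cycleOf_mem_cycleFactorsFinset_iff.2 (mem_filter.1 ho).2)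
      (fun o ho o' ho' e => ?_) (fun c hc => ?_) fun o ho => congrArg F (congrArg card (ext fun a => by
        simp only [mem_filter, mem_univ, true_and, h, mem_support_cycleOf_iff, (mem_filter.1 ho).2, and_true]))
    · exact ((h _ _).2 ((sameCycle_iff_cycleOf_eq_of_mem_support
        (mem_filter.1 ho).2 (mem_filter.1 ho').2).2 e)).symm.trans o'.out_eq
    · obtain ⟨a, ha⟩ := (mem_cycleFactorsFinset_iff.1 hc).1.nonempty_support
      have h1 := (h _ a).1 rfl
      exact ⟨Quotient.mk _ a, mem_filter.2 ⟨mem_univ _, h1.mem_support_iff.2 (mem_cycleFactorsFinset_support_le hc ha)⟩,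
        h1.cycleOf_eq.trans (cycle_is_cycleOf ha hc).symm⟩
  · have h2 : ∀ a b, a ∉ g.support → SameCycle g a b → a = b := fun a b ha e => e.eq_of_left (notMem_support.1 ha)
    refine prod_bij (fun o _ => o.out) (fun o ho => mem_compl.2 (mem_filter.1 ho).2) (fun o _ o' _ e => Quotient.out_injective e)
      (fun a ha => ?_) fun o ho => congrArg F (card_eq_one.2 ⟨o.out, ext fun a => ?_⟩)
    · have h1 := (h2 _ _ (mem_compl.1 ha) ((h _ a).1 rfl).symm).symm
      exact ⟨Quotient.mk _ a, mem_filter.2 ⟨mem_univ _, h1.symm ▸ mem_compl.1 ha⟩, h1⟩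
    · simp only [mem_filter, mem_univ, true_and, h, mem_singleton]
      exact ⟨fun e => (h2 _ _ (mem_filter.1 ho).2 e).symm, fun e => e ▸ SameCycle.rfl⟩

theorem Pz_eq_prod (z : ι → A) (g : Perm α) : Pz z g = (g.partition.parts.map (ps z)).prod := by
  classical
  rw [← prod_orb]
  simp only [ps]
  rw [prod_univ_sum, Fintype.piFinset_univ, Pz]
  refine (sum_nbij' (fun F => F ∘ Quotient.mk _) (fun f o => f o.out) (fun F _ => ?_) (fun _ _ => mem_univ _)
    (fun F _ => by simp) (fun f hf => funext fun a => ?_) fun F _ => ?_).symm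
  · exact mem_filter.2 ⟨mem_univ _, funext fun a => congrArg F (Quotient.sound (sameCycle_apply_left.2 SameCycle.rfl))⟩
  · obtain ⟨i, -, e⟩ := SameCycle.exists_pow_eq' (show SameCycle g a (Quotient.mk (SameCycle.setoid g) a).out from
      Quotient.exact (Quotient.out_eq (Quotient.mk (SameCycle.setoid g) a)).symm)
    simp only [Function.comp, ← e]
    clear e
    induction i with
    | zero => rfl
    | succ i ih => rw [pow_succ', Perm.mul_apply]; exact (congrFun (mem_filter.1 hf).2 _).trans ih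
  · simp only [Function.comp]
    rw [← prod_fiberwise' univ (Quotient.mk (SameCycle.setoid g)) fun o => z (F o)]; simp

end CL.Sym
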