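/-
Symmetric groups, part 2: the Frobenius formula, the irreducible characters, Murnaghan-Nakayama.
-/
import Cfsg.Agent.Sym.Pow

set_option autoImplicit false
set_option linter.unusedSectionVars false
open Finset Equiv Equiv.Perm Matrix MvPolynomial Cfsg CL.Char
open scoped Nat

namespace CL.Sym

variable {α κ : Type*} [Fintype α] [DecidableEq α] [Fintype κ] [DecidableEq κ] {N : ℕ}

/-- the Frobenius coefficient. -/
noncomputable def Xc (β : Fin N → ℕ) (s : Multiset ℕ) : ℂ := cf β (alt X Fin.val * (s.map (ps X)).prod)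

/-- the class function with exponent vector `β`. -/
noncomputable def chi (β : Fin N → ℕ) (g : Perm α) : ℂ := Xc β g.partition.parts

/-- the size of an exponent vector is `n`. -/
def Sz (β : Fin N → ℕ) (n : ℕ) : Prop := ∑ i, β i = n + ∑ i : Fin N, (i : ℕ)

theorem cf_alt (β γ : Fin N → ℕ) :
    cf β (alt X γ : MvPolynomial (Fin N) ℂ) = ∑ σ : Perm (Fin N), sign σ • if γ ∘ σ = β then 1 else 0 := by
  simp only [alt_eq, map_sum, Units.smul_def, map_zsmul, cf_mon]

theorem Xc_zero (β : Fin N → ℕ) : Xc β 0 = ∑ σ : Perm (Fin N), sign σ • if Fin.val ∘ σ = β then 1 else 0 := by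
  simp [Xc, cf_alt]

/-- Murnaghan-Nakayama. -/
theorem Xc_cons (β : Fin N → ℕ) (m : ℕ) (s : Multiset ℕ) :
    Xc β (m ::ₘ s) = ∑ j, if m ≤ β j then Xc (β - Pi.single j m) s else 0 := by
  rw [Xc, Multiset.map_cons, Multiset.prod_cons, mul_left_comm, mul_comm, ps, mul_sum, map_sum]
  refine sum_congr rfl fun j _ => ?_
  rw [← mon_single, cf_mul_mon]
  by_cases h : m ≤ β j
  · rw [if_pos h, if_pos fun i => by rw [Pi.single_apply]; split_ifs with e <;> simp [*]]; rfl
  · rw [if_neg h, if_neg fun h' => h (by simpa using h' j)]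

theorem single_comp (j : Fin N) (m : ℕ) (σ : Perm (Fin N)) :
    (Pi.single (σ j) m : Fin N → ℕ) ∘ σ = Pi.single j m := funext fun i => by simp [Pi.single_apply]

theorem Xc_comp (β : Fin N → ℕ) (σ : Perm (Fin N)) (s : Multiset ℕ) : Xc (β ∘ σ) s = sign σ • Xc β s := by
  induction s using Multiset.induction_on generalizing β with
  | empty =>
    rw [Xc_zero, Xc_zero, smul_sum, ← Equiv.sum_comp (Equiv.mulRight σ)]
    refine sum_congr rfl fun τ _ => ?_
    rw [coe_mulRight, map_mul, mul_comm, mul_smul]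
    exact congrArg _ (congrArg _ (if_congr (σ.surjective.right_cancellable (g₁ := Fin.val ∘ τ)) rfl rfl))
  | cons m s ih =>
    rw [Xc_cons, Xc_cons, smul_sum]
    refine Fintype.sum_equiv σ _ _ fun j => ?_
    rw [smul_ite, smul_zero, ← ih, ← single_comp j m σ]; rfl

theorem eq_zero_of_eq_neg' {x : ℂ} (h : x = -x) : x = 0 := by linear_combination h / 2

theorem comp_swap_eq {β : Fin N → ℕ} {i j : Fin N} (h : β i = β j) : β ∘ swap i j = β :=
  funext fun k => by rw [Function.comp, swap_apply_def]; split_ifs <;> simp [*]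

theorem Xc_inj {β : Fin N → ℕ} {s : Multiset ℕ} (h : Xc β s ≠ 0) : β.Injective := fun i j e => by
  by_contra hij
  have := Xc_comp β (swap i j) s
  rw [comp_swap_eq e, sign_swap hij] at this
  exact h (eq_zero_of_eq_neg' (by simpa using this))

theorem sum_sub_single {β : Fin N → ℕ} {j : Fin N} {m : ℕ} (h : m ≤ β j) :
    ∑ i, (β - Pi.single j m : Fin N → ℕ) i + m = ∑ i, β i := by
  rw [← sum_pi_single' (s := univ) j m |>.trans (if_pos (mem_univ j)), ← sum_add_distrib]
  exact sum_congr rfl fun i _ => by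
    simp only [Pi.sub_apply, Pi.single_apply]; split_ifs with e <;> simp [*]

theorem Xc_sz {β : Fin N → ℕ} {s : Multiset ℕ} (h : Xc β s ≠ 0) : Sz β s.sum := by
  induction s using Multiset.induction_on generalizing β with
  | empty =>
    obtain ⟨σ, -, hσ⟩ := exists_ne_zero_of_sum_ne_zero (Xc_zero β ▸ h)
    obtain rfl : Fin.val ∘ σ = β := by by_contra e; simp [e] at hσ
    simpa [Sz] using Equiv.sum_comp σ Fin.val
  | cons m s ih =>
    obtain ⟨j, -, hj⟩ := exists_ne_zero_of_sum_ne_zero (Xc_cons β m s ▸ h)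
    have h1 : m ≤ β j := by by_contra e; simp [e] at hj
    have h2 := ih (by simpa [h1] using hj)
    have := sum_sub_single h1
    rw [Sz] at h2 ⊢; rw [Multiset.sum_cons]; omega

theorem chi_eq (β : Fin N → ℕ) (g : Perm α) : chi β g =
    ∑ σ : Perm (Fin N), sign σ • if ∀ i, σ i ≤ β i then (Nf (β - Fin.val ∘ σ) g : ℂ) else 0 := by
  rw [chi, Xc, ← Pz_eq_prod, mul_comm, alt_eq, mul_sum, map_sum]
  refine sum_congr rfl fun σ _ => ?_
  rw [mul_smul_comm, Units.smul_def, map_zsmul, cf_mul_mon, cf_Pz]; congr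

theorem chi_eq_cf (β : Fin N → ℕ) (g : Perm α) : chi β g = cf β (Pz X g * alt X Fin.val) := by
  rw [chi, Xc, ← Pz_eq_prod, mul_comm]

theorem isGen_chi (β : Fin N → ℕ) : IsGeneralizedCharacter (Perm α) (chi β) := by
  have : (chi β : Perm α → ℂ) = ∑ σ : Perm (Fin N), (sign σ : ℤ) •
      if ∀ i, σ i ≤ β i then fun g => (Nf (β - Fin.val ∘ σ) g : ℂ) else 0 := funext fun g => by
    rw [chi_eq, Finset.sum_apply]; exact sum_congr rfl fun σ _ => by split_ifs <;> rfl
  rw [this]
  refine isGeneralizedCharacter_sum _ _ fun σ _ => IsGeneralizedCharacter.zsmul ?_ _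
  split_ifs
  exacts [(isCharacter_Nf _).isGeneralizedCharacter, isGeneralizedCharacter_zero]

theorem sum_chi_smul {A : Type*} [CommRing A] [Algebra ℂ A] (z : Fin N → A) {β : Fin N → ℕ} (h : Sz β (Fintype.card α)) :
    ∑ g : Perm α, chi β g • (Pz z g * alt z Fin.val) = (Fintype.card α)! • alt z β := by
  simp only [← smul_mul_assoc, ← sum_mul, chi_eq, sum_smul]
  rw [alt_eq_det_mul z β, ← smul_mul_assoc, ← det_transpose, det_apply, smul_sum, sum_comm]
  congr 1
  refine sum_congr rfl fun σ _ => ?_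
  simp only [smul_assoc, ← smul_sum, transpose_apply, of_apply, Ht, prod_ite_zero, mem_univ, forall_true_left]
  rw [smul_comm]; congr 1
  split_ifs with h1
  · simp only [Nat.cast_smul_eq_nsmul]
    refine sum_Nf_smul z ?_
    have h2 : ∑ i, ((β - Fin.val ∘ σ) i + (σ i : ℕ)) = ∑ i, β i := sum_congr rfl fun i _ => Nat.sub_add_cancel (h1 i)
    rw [sum_add_distrib, Equiv.sum_comp σ Fin.val, h] at h2
    omega
  · simp

theorem partition_inv (g : Perm α) : g⁻¹.partition = g.partition :=
  partition_eq_of_isConj.1 (isConj_iff_cycleType_eq.2 (cycleType_inv g))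

theorem conj_chi (β : Fin N → ℕ) (g : Perm α) : (starRingEnd ℂ) (chi β g) = chi β g := by
  rw [(isGen_chi β).conj_apply, chi, partition_inv, chi]

theorem inner_chi {β : Fin N → ℕ} (h : Sz β (Fintype.card α)) (γ : Fin N → ℕ) :
    classInner (chi β : Perm α → ℂ) (chi γ) = ∑ σ : Perm (Fin N), sign σ • if β ∘ σ = γ then 1 else 0 := by
  have := congrArg (cf γ) (sum_chi_smul (X : Fin N → MvPolynomial (Fin N) ℂ) h)
  simp only [map_sum, map_smul, ← chi_eq_cf, map_nsmul, cf_alt, smul_eq_mul] at this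
  simp only [classInner_def, conj_chi, this]
  rw [Nat.card_eq_fintype_card, Fintype.card_perm, nsmul_eq_mul, inv_mul_cancel_left₀ (mod_cast (Nat.factorial_pos _).ne')]

/-- `β` labels the irreducible character `χ`. -/
def Lab (β : Fin N → ℕ) (χ : IrrCharacter (Perm α)) : Prop := chi β = χ.1 ∨ chi β = -χ.1

theorem exists_lab {β : Fin N → ℕ} (hi : β.Injective) (h : Sz β (Fintype.card α)) :
    ∃ χ : IrrCharacter (Perm α), Lab β χ := by
  have h1 : classInner (chi β : Perm α → ℂ) (chi β) = 1 := by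
    rw [inner_chi h, sum_eq_single 1 (fun σ _ e => ?_) (by simp)]
    · simp
    · rw [if_neg fun e' : β ∘ σ = β => e (Equiv.ext fun i => hi (congrFun e' i)), smul_zero]
  exact ((isGen_chi β).irr_or_neg_irr h1).elim (fun h => ⟨⟨_, h⟩, .inl rfl⟩) fun h => ⟨⟨_, h⟩, .inr (neg_neg _).symm⟩

namespace Lab
variable {β γ : Fin N → ℕ} {χ ψ : IrrCharacter (Perm α)}

theorem eq_zero_iff (h : Lab β χ) (g : Perm α) : chi β g = 0 ↔ χ.1 g = 0 := by
  rcases h with h | h <;> simp [h]

theorem mul_eq (h : Lab β χ) (x y : Perm α) : chi β x * chi β y = χ.1 x * χ.1 y := by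
  rcases h with h | h <;> simp [h]

theorem one_ne (h : Lab β χ) : chi β (1 : Perm α) ≠ 0 := fun e => χ.2.one_ne_zero ((h.eq_zero_iff 1).1 e)

theorem inj (h : Lab β χ) : β.Injective := Xc_inj h.one_ne

theorem sz (h : Lab β χ) : Sz β (Fintype.card α) := (1 : Perm α).partition.parts_sum ▸ Xc_sz h.one_ne

theorem comp (h : Lab β χ) (σ : Perm (Fin N)) : Lab (β ∘ σ) χ := by
  have : (chi (β ∘ σ) : Perm α → ℂ) = sign σ • chi β := funext fun g => Xc_comp _ _ _
  rcases Int.units_eq_one_or (sign σ) with e | e <;> rcases h with h | h <;> simp [Lab, this, e, h]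

theorem inner_ne (h : Lab β χ) (h' : Lab γ ψ) : classInner (chi β : Perm α → ℂ) (chi γ) ≠ 0 ↔ χ = ψ := by
  rcases h with h | h <;> rcases h' with h' | h' <;>
    simp [h, h', classInner_neg_left, classInner_neg_right, classInner_irr]

theorem unique (h : Lab β χ) (h' : Lab β ψ) : χ = ψ := (h.inner_ne h').1 ((h.inner_ne h).2 rfl)

theorem exists_comp (h : Lab β χ) (h' : Lab γ χ) : ∃ σ : Perm (Fin N), β ∘ σ = γ := by
  obtain ⟨σ, -, hσ⟩ := exists_ne_zero_of_sum_ne_zero (inner_chi h.sz γ ▸ (h.inner_ne h').2 rfl)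
  exact ⟨σ, by by_contra e; simp [e] at hσ⟩

end Lab

theorem Xc_val (σ : Perm (Fin N)) : Xc (Fin.val ∘ σ) 0 = sign σ • 1 := by
  rw [Xc_comp, Xc_zero, sum_eq_single 1 (fun σ _ e => ?_) (by simp)]
  · simp
  · rw [if_neg fun e' : Fin.val ∘ σ = Fin.val => e (Equiv.ext fun i => Fin.ext (congrFun e' i)), smul_zero]

/-- every irreducible character has a label. -/
theorem exists_lab' (hN : Fintype.card α ≤ N) (χ : IrrCharacter (Perm α)) : ∃ β : Fin N → ℕ, Lab β χ := by
  by_contra! h
  have h1 : ∀ β : Fin N → ℕ, classInner χ.1 (chi β) = 0 := fun β => by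
    by_cases h0 : (chi β : Perm α → ℂ) = 0
    · rw [h0, classInner_zero_right]
    obtain ⟨g, hg⟩ := Function.ne_iff.1 h0
    obtain ⟨ψ, hψ⟩ := exists_lab (α := α) (Xc_inj hg) (g.partition.parts_sum ▸ Xc_sz hg)
    have : χ ≠ ψ := fun e => h β (e ▸ hψ)
    rcases hψ with e | e <;> simp [e, classInner_neg_right, classInner_irr, this]
  have h2 : (∑ g : Perm α, χ.1 g • Pz X g : MvPolynomial (Fin N) ℂ) * alt X Fin.val = 0 := cf_ext fun β => by
    simpa [classInner_def, conj_chi, sum_mul, ← chi_eq_cf, (Nat.factorial_pos _).ne', Fintype.card_perm] using h1 β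
  have h3 : (alt X Fin.val : MvPolynomial (Fin N) ℂ) ≠ 0 := fun e => by simpa [Xc, e] using Xc_val (1 : Perm (Fin N))
  obtain ⟨f⟩ : Nonempty (α ↪ Fin N) := Function.Embedding.nonempty_of_card_le (by simpa using hN)
  have h4 := congrArg (cf (cont f)) ((mul_eq_zero.1 h2).resolve_right h3)
  simp only [map_sum, map_smul, cf_Pz, map_zero, smul_eq_mul] at h4
  rw [sum_eq_single 1 (fun g _ hg => ?_) (by simp)] at h4
  · exact (mul_eq_zero.1 h4).elim χ.2.one_ne_zero (Nat.cast_ne_zero.2 (card_ne_zero.2 ⟨⇑f, mem_filter.2 ⟨mem_univ _, rfl, rfl⟩⟩))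
  · rw [Nf, card_eq_zero.2 (filter_eq_empty_iff.2 fun f' _ hf => hg (Equiv.ext fun a => ?_)), Nat.cast_zero, mul_zero]
    refine card_le_one.1 ((congrFun hf.2 (f' a)).trans_le (card_le_one.2 fun b hb c hc => f.injective ?_)) _
      (mem_filter.2 ⟨mem_univ _, congrFun hf.1 a⟩) _ (mem_filter.2 ⟨mem_univ _, rfl⟩)
    exact (mem_filter.1 hb).2.trans (mem_filter.1 hc).2.symm

theorem sum_add_le {γ : Fin N → ℕ} (hi : γ.Injective) {v : ℕ} (hv : ∀ i, γ i ≠ v) :
    ∑ i : Fin N, (i : ℕ) + N ≤ ∑ i, γ i + v := by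
  have h0 : (v : ℤ) ∉ univ.image fun i => (γ i : ℤ) := by simpa using hv
  have h1 : Set.InjOn (fun i => (γ i : ℤ)) (univ : Finset (Fin N)) := fun _ _ _ _ e => hi (by simpa using e)
  have := sum_range_le_sum (s := insert (v : ℤ) (univ.image fun i => (γ i : ℤ))) (c := 0) (by simp)
  rw [card_insert_of_notMem h0, sum_insert h0, sum_image h1, card_image_of_injOn h1, card_fin, sum_range_succ,
    sum_range] at this
  zify
  simpa [add_comm] using this

/-- the adjoint of multiplication by a power sum kills classes without such a cycle. -/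
theorem sum_Xc_add {m : ℕ} (hm : 0 < m) {s : Multiset ℕ} (hs : m ∉ s) (hN : s.sum ≤ N) (γ : Fin N → ℕ) :
    ∑ j, Xc (γ + Pi.single j m) s = 0 := by
  have h0 : ∀ (s : Multiset ℕ) (γ : Fin N → ℕ), ¬ γ.Injective → ∑ j, Xc (γ + Pi.single j m) s = 0 := fun s γ h => by
    obtain ⟨i, j, e, hij⟩ := Function.not_injective_iff.1 h
    refine eq_zero_of_eq_neg' ?_
    rw [← sum_neg_distrib]
    refine Fintype.sum_equiv (swap i j) _ _ fun k => ?_
    have := Xc_comp (γ + Pi.single (swap i j k) m) (swap i j) s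
    rw [Pi.add_comp, comp_swap_eq e, single_comp, sign_swap hij] at this
    simpa using this
  induction s using Multiset.induction_on generalizing γ with
  | empty =>
    by_cases hi : γ.Injective
    swap; · exact h0 _ _ hi
    refine sum_eq_zero fun j _ => by_contra fun h => ?_
    have h1 := Xc_sz h
    have h2 := sum_add_le (Xc_inj h) (v := γ j) fun i e => by
      by_cases e' : i = j
      · subst e'; simp [hm.ne'] at e
      · exact e' (hi (by simpa [e'] using e))
    obtain ⟨σ, -, hσ⟩ := exists_ne_zero_of_sum_ne_zero (Xc_zero _ ▸ h)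
    have h3 : Fin.val ∘ σ = γ + Pi.single j m := by by_contra e; simp [e] at hσ
    have := congrFun h3 j
    have := (σ j).2
    simp [Sz] at *; omega
  | cons k s ih =>
    by_cases hi : γ.Injective
    swap; · exact h0 _ _ hi
    rw [Multiset.sum_cons] at hN
    rw [Multiset.mem_cons, not_or] at hs
    simp only [Xc_cons]
    rw [sum_comm]
    refine sum_eq_zero fun i _ => ?_
    by_cases hk : k ≤ γ i
    · rw [← ih hs.2 (by omega) (γ - Pi.single i k)]
      refine sum_congr rfl fun j _ => (if_pos (hk.trans (Nat.le_add_right _ _))).trans (congrArg (Xc · s) (funext fun l => ?_))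
      simp only [Pi.sub_apply, Pi.add_apply, Pi.single_apply]; split_ifs <;> subst_vars <;> omega
    refine sum_eq_zero fun j _ => ite_eq_right_iff.2 fun h1 => by_contra fun h => ?_
    obtain rfl : i = j := by by_contra e; simp [e, hk] at h1
    have h2 := Xc_sz h
    have h3 := sum_sub_single h1
    have h4 := sum_add_le hi (v := γ i + m - k) fun l e => by
      by_cases e' : l = i
      · subst e'; simp at h1; omega
      · exact e' (Xc_inj h (by simpa [e'] using e))
    simp [Sz, sum_add_distrib] at h1 h2 h3; omega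

/-- vanishing when too many rim hooks have to be removed. -/
theorem Xc_eq_zero {q : ℕ} {t : Multiset ℕ} (ht : ∀ a ∈ t, q ∣ a) (s : Multiset ℕ) {β : Fin N → ℕ}
    (h : ∀ γ : Fin N → ℕ, (∀ i, γ i % q = β i % q) → ∑ i, γ i + t.sum = ∑ i, β i → ¬ γ.Injective) : Xc β (t + s) = 0 := by
  induction t using Multiset.induction_on generalizing β with
  | empty => exact by_contra fun e => h β (fun _ => rfl) (by simp) (Xc_inj e)
  | cons m t ih =>
    rw [Multiset.cons_add, Xc_cons]
    refine sum_eq_zero fun j _ => ite_eq_right_iff.2 fun h1 => ih (fun a ha => ht a (Multiset.mem_cons_of_mem ha))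
      fun γ h2 h3 => h γ (fun i => (h2 i).trans ?_) (by rw [Multiset.sum_cons, ← sum_sub_single h1]; omega)
    obtain ⟨c, rfl⟩ := ht m (Multiset.mem_cons_self _ _)
    rw [Pi.sub_apply, Pi.single_apply]
    split_ifs with e
    · subst e; exact Nat.sub_mul_mod h1
    · rfl

theorem exists_parts {s : Multiset ℕ} (h0 : ∀ a ∈ s, 0 < a) (h : s.sum = Fintype.card α) :
    ∃ g : Perm α, g.partition.parts = s := by
  have h1 := Multiset.filter_add_not (2 ≤ ·) s
  have h2 : s.filter (¬ 2 ≤ ·) = Multiset.replicate (s.filter (¬ 2 ≤ ·)).card 1 := Multiset.eq_replicate.2 ⟨rfl, fun a ha => by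
    have := h0 a (Multiset.mem_of_mem_filter ha); have := Multiset.of_mem_filter ha; omega⟩
  have h3 := congrArg Multiset.sum h1
  rw [Multiset.sum_add, h2, Multiset.sum_replicate, smul_eq_mul, mul_one] at h3
  obtain ⟨g, hg⟩ := (exists_with_cycleType_iff α (m := s.filter (2 ≤ ·))).2 ⟨by omega, fun a => Multiset.of_mem_filter⟩
  refine ⟨g, ?_⟩
  rw [parts_partition, ← sum_cycleType, hg, ← h, ← h3, add_tsub_cancel_left, ← h2, h1]

theorem sign_eq (g : Perm α) : sign g = (-1) ^ (Fintype.card α + g.partition.parts.card) := by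
  have := g.support.card_le_univ
  rw [sign_of_cycleType, parts_partition, Multiset.card_add, Multiset.card_replicate, sum_cycleType,
    show Fintype.card α + (g.cycleType.card + (Fintype.card α - #g.support)) =
      #g.support + g.cycleType.card + 2 * (Fintype.card α - #g.support) by omega, pow_add _ _ (2 * _), pow_mul]
  simp

theorem orderOf_eq (g : Perm α) : orderOf g = g.partition.parts.lcm := by
  rw [parts_partition, Multiset.lcm_add, lcm_cycleType, Nat.eq_one_of_dvd_one (Multiset.lcm_dvd.2 fun b hb => by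
    rw [Multiset.eq_of_mem_replicate hb])]
  simp

end CL.Sym
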