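/-
Symmetric groups, part 3: restriction to the alternating group.
-/
import Cfsg.Agent.Sym.Frob
import Cfsg.Agent.Char.Clifford
import Cfsg.Agent.Char.Constituent
import Cfsg.Agent.Char.Linear

set_option autoImplicit false
set_option linter.unusedSectionVars false
open Finset Equiv Equiv.Perm Cfsg CL.Char

namespace CL.Sym

variable {α : Type*} [Fintype α] [DecidableEq α] {N : ℕ}

/-- `χ` vanishes on the odd permutations. -/
def SelfC (χ : Perm α → ℂ) : Prop := ∀ g, sign g = -1 → χ g = 0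

/-- the restriction to the alternating group. -/
abbrev resA (χ : Perm α → ℂ) : alternatingGroup α → ℂ := fun x => χ x

/-- the sign character. -/
def sgnC : Perm α →* ℂˣ := (Units.map (Int.castRingHom ℂ : ℤ →* ℂ)).comp sign

theorem sgnC_apply (g : Perm α) : (sgnC g : ℂ) = ((sign g : ℤ) : ℂ) := rfl

theorem inner_resA [Nontrivial α] (φ ψ : Perm α → ℂ) :
    classInner (resA φ) (resA ψ) = classInner φ ψ + classInner (fun g => (sgnC g : ℂ) * φ g) ψ := by
  rw [classInner_def, classInner_def, classInner_def, ← mul_add, ← sum_add_distrib, ← two_mul_nat_card_alternatingGroup,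
    ← sum_subtype (filter (sign · = 1) univ) (by simp) fun g => φ g * (starRingEnd ℂ) (ψ g), sum_filter, Nat.cast_mul, mul_inv,
    mul_sum, mul_sum]
  refine sum_congr rfl fun g _ => ?_
  rcases Int.units_eq_one_or (sign g) with h | h <;> simp [sgnC_apply, h]
  ring

theorem selfC_iff {ψ : Perm α → ℂ} : SelfC ψ ↔ (fun g => (sgnC g : ℂ) * ψ g) = ψ :=
  ⟨fun h => funext fun g => by rcases Int.units_eq_one_or (sign g) with e | e <;> simp [sgnC_apply, e, h g],
    fun h g e => eq_zero_of_eq_neg' (by simpa [sgnC_apply, e] using (congrFun h g).symm)⟩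

theorem resA_irr {ψ : Perm α → ℂ} (hψ : IsIrrCharacter _ ψ) (h : ¬ SelfC ψ) : IsIrrCharacter _ (resA ψ) := by
  have : Nontrivial α := by
    by_contra hn
    have := not_nontrivial_iff_subsingleton.1 hn
    exact h fun g e => by simp [Subsingleton.elim g 1] at e
  refine (hψ.isCharacter.restrict _).isIrrCharacter_of_norm_one ?_
  rw [inner_resA, hψ.classInner_self, (hψ.monoidHom_mul sgnC).classInner_of_ne hψ (mt selfC_iff.2 h), add_zero]

theorem resA_split [Nontrivial α] {ψ : Perm α → ℂ} (hψ : IsIrrCharacter _ ψ) (h : SelfC ψ) {θ : alternatingGroup α → ℂ}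
    (hθ : IsIrrCharacter _ θ) (h0 : classInner (resA ψ) θ ≠ 0) :
    ψ 1 = 2 * θ 1 ∧ ∀ θ', IsIrrCharacter _ θ' → classInner (resA ψ) θ' ≠ 0 → θ' = θ ∨ θ' = resA ψ - θ := by
  have h1 : classInner (resA ψ) (resA ψ) = 2 := by rw [inner_resA, selfC_iff.1 h, hψ.classInner_self]; norm_num
  obtain ⟨e, he⟩ := (hψ.isCharacter.restrict _).exists_nat_classInner hθ.isCharacter
  have he0 : e ≠ 0 := fun e0 => h0 (by rw [he, e0, Nat.cast_zero])
  have h2 : e ^ 2 * (inertia (alternatingGroup α) θ).index = 2 := mod_cast (clifford_norm hψ hθ he he0).symm.trans h1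
  obtain rfl : e = 1 := by
    by_contra h3
    have : 2 ^ 2 ≤ e ^ 2 := Nat.pow_le_pow_left (by omega) 2
    have := Nat.le_of_dvd two_pos (Dvd.intro _ h2)
    omega
  rw [one_pow, one_mul] at h2
  refine ⟨by rw [clifford_degree hψ hθ h0, he, h2]; simp, fun θ' hθ' h3 => or_iff_not_imp_left.2 fun hne => ?_⟩
  have h4 : IsGeneralizedCharacter _ (resA ψ - θ) :=
    (hψ.isCharacter.restrict _).isGeneralizedCharacter.sub hθ.isGeneralizedCharacter
  obtain ⟨β, hβ, e⟩ := exists_char_eq_add_of_classInner_ne_zero (hψ.isCharacter.restrict _) hθ h0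
  have e' : resA ψ - θ = β := sub_eq_of_eq_add' e
  have h5 : IsIrrCharacter _ β := hβ.isIrrCharacter_of_norm_one (by
    rw [← e', classInner_sub_left, classInner_sub_right, classInner_sub_right, h1, he, hθ.classInner_self,
      hθ.isCharacter.classInner_comm (hψ.isCharacter.restrict _), he]; norm_num)
  rw [show resA ψ = θ + β from e, classInner_add_left, hθ.classInner_of_ne hθ' (Ne.symm hne), zero_add] at h3
  exact e' ▸ (h5.eq_of_classInner_ne_zero hθ' h3).symm

theorem exists_parts' {s : Multiset ℕ} (h0 : ∀ a ∈ s, 0 < a) (h : s.sum = Fintype.card α) :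
    ∃ g : Perm α, g.partition.parts = s ∧ sign g = (-1) ^ (s.sum + s.card) ∧ orderOf g = s.lcm := by
  obtain ⟨g, rfl⟩ := exists_parts h0 h
  exact ⟨g, rfl, by rw [sign_eq, h], orderOf_eq g⟩

/-- a character that restricts irreducibly and vanishes on a given class. -/
theorem exists_vanish {n : ℕ} {β : Fin N → ℕ} {s t : Multiset ℕ} (hs : ∀ a ∈ s, 0 < a) (ht : ∀ a ∈ t, 0 < a)
    (hs1 : s.sum = n) (ht1 : t.sum = n) (hs2 : Odd (n + s.card)) (ht2 : Even (n + t.card)) (h1 : Xc β s ≠ 0)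
    (h2 : Xc β t = 0) : ∃ χ : IrrCharacter (alternatingGroup (Fin n)), (∃ x : alternatingGroup (Fin n),
      orderOf x = t.lcm ∧ χ.1 x = 0) ∧ ∃ ψ : IrrCharacter (Perm (Fin n)), ∀ x : alternatingGroup (Fin n), ψ.1 x = χ.1 x := by
  obtain ⟨ψ, hψ⟩ := exists_lab (α := Fin n) (Xc_inj h1) (by simpa [hs1] using Xc_sz h1)
  obtain ⟨g, rfl, hg, -⟩ := exists_parts' (α := Fin n) hs (by simpa using hs1)
  obtain ⟨x, rfl, hx, hx'⟩ := exists_parts' (α := Fin n) ht (by simpa using ht1)
  rw [hs1, hs2.neg_one_pow] at hg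
  rw [ht1, ht2.neg_one_pow] at hx
  exact ⟨⟨_, resA_irr ψ.2 fun h => h1 ((hψ.eq_zero_iff g).2 (h g hg))⟩,
    ⟨⟨x, hx⟩, (Subgroup.orderOf_mk _ _).trans hx', (hψ.eq_zero_iff x).1 h2⟩, ψ, fun _ => rfl⟩

end CL.Sym
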