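/-
Symmetric groups, part 4: cores, and orthogonality for the characters with a given core.
-/
import Cfsg.Agent.Sym.Frob

set_option autoImplicit false
set_option linter.unusedSectionVars false
open Finset Equiv Equiv.Perm Cfsg CL.Char
open scoped Nat

namespace CL.Sym

variable {α : Type*} [Fintype α] [DecidableEq α] {N p : ℕ} {β γ κ κ' d : Fin N → ℕ}

/-- no bead can move up its runner. -/
def Settled (p : ℕ) (κ : Fin N → ℕ) : Prop := κ.Injective ∧ ∀ j, p ≤ κ j → ∃ i, κ i + p = κ j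

/-- the displacements increase along the runners. -/
def Mono (p : ℕ) (κ d : Fin N → ℕ) : Prop := ∀ i j, κ i + p = κ j → d i ≤ d j

/-- the number of beads on a runner. -/
def cnt (p : ℕ) (β : Fin N → ℕ) (r : ℕ) : ℕ := #{j | β j % p = r}

theorem cnt_congr (h : ∀ j, β j % p = γ j % p) : cnt p β = cnt p γ := funext fun r => by simp only [cnt, h]

theorem cnt_comp (β : Fin N → ℕ) (σ : Perm (Fin N)) : cnt p (β ∘ σ) = cnt p β := funext fun _ => card_equiv σ fun _ => by simp

theorem cnt_add (κ d : Fin N → ℕ) : cnt p (κ + p • d) = cnt p κ := cnt_congr fun j => by simp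

theorem mem_pA {n : ℕ} : β ∈ piAntidiag univ n ↔ ∑ i, β i = n := by simp

theorem sub_add_single {j : Fin N} {m : ℕ} (h : m ≤ β j) : β - Pi.single j m + Pi.single j m = β := funext fun i => by
  simp only [Pi.add_apply, Pi.sub_apply, Pi.single_apply]; split_ifs <;> subst_vars <;> omega

theorem exists_core (hp : 0 < p) (hβ : β.Injective) : ∃ κ d, Settled p κ ∧ Mono p κ d ∧ β = κ + p • d := by
  induction h : ∑ i, β i using Nat.strong_induction_on generalizing β with
  | _ n ih =>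
  by_cases h1 : ∀ j, p ≤ β j → ∃ i, β i + p = β j
  · exact ⟨β, 0, ⟨hβ, h1⟩, fun _ _ _ => le_rfl, by simp⟩
  push Not at h1
  obtain ⟨j, hj, h1⟩ := h1
  have h2 := sum_sub_single hj
  obtain ⟨κ, d, hκ, hd, e⟩ := ih _ (by omega) (β := β - Pi.single j p) (fun a b e => by
    have := h1 a; have := h1 b
    simp only [Pi.sub_apply, Pi.single_apply] at e
    split_ifs at e <;> subst_vars <;> first | rfl | omega | exact hβ e) rfl
  replace e := fun i => congrFun e i
  simp only [Pi.sub_apply, Pi.single_apply, Pi.add_apply, Pi.smul_apply, smul_eq_mul] at e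
  refine ⟨κ, d + Pi.single j 1, hκ, fun a b hab => ?_, funext fun a => ?_⟩
  · have := hd a b hab
    simp only [Pi.add_apply, Pi.single_apply]
    split_ifs with ha hb <;> try omega
    subst ha
    refine lt_of_le_of_ne this fun e' => hb (hβ ?_)
    have := e a; have := e b
    simp [hb, ← e'] at *; omega
  · have := e a
    simp only [Pi.add_apply, Pi.single_apply, Pi.smul_apply, smul_eq_mul]
    split_ifs at * <;> subst_vars <;> simp [mul_add] <;> omega

theorem Settled.mono (h : Settled p κ) (hd : Mono p κ d) (k : ℕ) (j : Fin N) (hk : p * k ≤ κ j) :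
    ∃ i, κ i + p * k = κ j ∧ d i ≤ d j := by
  induction k with
  | zero => exact ⟨j, rfl, le_rfl⟩
  | succ k ih =>
    obtain ⟨i, hi, hi'⟩ := ih (by rw [mul_add] at hk; omega)
    obtain ⟨l, hl⟩ := h.2 i (by rw [mul_add] at hk; omega)
    exact ⟨l, by rw [mul_add]; omega, (hd _ _ hl).trans hi'⟩

theorem Settled.exists_eq (h : Settled p κ) (hd : Mono p κ d) {v : ℕ} {j : Fin N} (h1 : v % p = κ j % p) (h2 : v ≤ κ j) :
    ∃ i, κ i = v ∧ d i ≤ d j := by
  obtain ⟨k, hk⟩ := (Nat.modEq_iff_dvd' h2).1 h1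
  obtain ⟨i, hi, hi'⟩ := h.mono hd k j (by omega)
  exact ⟨i, by omega, hi'⟩

theorem Settled.le (h : Settled p κ) (hd : Mono p κ d) {i j : Fin N} (h1 : κ i % p = κ j % p) (h2 : κ i ≤ κ j) : d i ≤ d j := by
  obtain ⟨l, hl, hl'⟩ := h.exists_eq hd h1 h2
  exact h.1 hl ▸ hl'

theorem Settled.inj (h : Settled p κ) (hd : Mono p κ d) : (κ + p • d).Injective := fun i j e => by
  have h1 : κ i % p = κ j % p := by simpa using congrArg (· % p) e
  simp only [Pi.add_apply, Pi.smul_apply, smul_eq_mul] at e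
  rcases le_total (κ i) (κ j) with h2 | h2
  · have := Nat.mul_le_mul_left p (h.le hd h1 h2); exact h.1 (by omega)
  · have := Nat.mul_le_mul_left p (h.le hd h1.symm h2); exact h.1 (by omega)

theorem Settled.mem_iff (h : Settled p κ) (hp : 0 < p) (v : ℕ) : (∃ i, κ i = v) ↔ v / p < cnt p κ (v % p) := by
  have h0 : Mono p κ 0 := fun _ _ _ => le_rfl
  refine ⟨fun ⟨j, hj⟩ => ?_, fun h1 => by_contra fun h2 => h1.not_ge ?_⟩
  · rw [← Nat.succ_le_iff, ← card_range (v / p).succ]
    refine card_le_card_of_surjOn (κ · / p) fun a ha => ?_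
    obtain ⟨i, hi, -⟩ := h.exists_eq h0 (v := v % p + p * a) (j := j) (by simp [hj]) (by
      have := Nat.mul_le_mul_left p (Nat.lt_succ_iff.1 (mem_range.1 ha)); have := Nat.mod_add_div v p; omega)
    exact ⟨i, by simp [hi], by simp [hi, Nat.add_mul_div_left _ _ hp, Nat.mod_div_self]⟩
  · rw [← card_range (v / p)]
    refine card_le_card_of_injOn (κ · / p) (fun j hj => ?_) fun i hi j hj e => h.1 ?_
    · have hj' : κ j % p = v % p := by simpa using hj
      have := mt (h.exists_eq h0 hj'.symm) fun ⟨i, hi, _⟩ => h2 ⟨i, hi⟩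
      have := Nat.mod_add_div v p; have := Nat.mod_add_div (κ j) p
      exact mem_range.2 (show κ j / p < v / p from Nat.lt_of_mul_lt_mul_left (a := p) (by omega))
    · rw [← Nat.mod_add_div (κ i) p, ← Nat.mod_add_div (κ j) p, (mem_filter.1 hi).2, (mem_filter.1 hj).2]
      exact congrArg (_ + p * ·) e

theorem exists_comp_of_range (hγ : γ.Injective) (h : ∀ j, ∃ i, β i = γ j) : ∃ σ : Perm (Fin N), β ∘ σ = γ := by
  choose f hf using h
  exact ⟨Equiv.ofBijective f (Finite.injective_iff_bijective.1 fun a b e => hγ (by rw [← hf, ← hf, e])), funext hf⟩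

theorem Settled.exists_comp (h : Settled p κ) (h' : Settled p κ') (hp : 0 < p) (e : cnt p κ' = cnt p κ) :
    ∃ σ : Perm (Fin N), κ' ∘ σ = κ :=
  exists_comp_of_range h.1 fun j => (h'.mem_iff hp _).2 (e ▸ (h.mem_iff hp _).1 ⟨j, rfl⟩)

/-- removing all `p`-hooks. -/
theorem Settled.Xc_core (h : Settled p κ) (hp : 0 < p) {w : ℕ} (hd : Mono p κ d) (hw : ∑ i, d i = w) :
    ∃ c : ℕ, 0 < c ∧ ∀ s, Xc (κ + p • d) (Multiset.replicate w p + s) = c * Xc κ s := by
  induction w generalizing d with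
  | zero =>
    obtain rfl : d = 0 := funext fun i => (sum_eq_zero_iff.1 hw) i (mem_univ _)
    exact ⟨1, one_pos, by simp⟩
  | succ w ih =>
    have h1 : ∀ j, ∃ c : ℕ, (0 < d j → Mono p κ (d - Pi.single j 1) → 0 < c) ∧ ∀ s, (if p ≤ (κ + p • d) j then
        Xc (κ + p • d - Pi.single j p) (Multiset.replicate w p + s) else 0) = c * Xc κ s := fun j => by
      by_cases h2 : 0 < d j ∧ Mono p κ (d - Pi.single j 1)
      · obtain ⟨c, hc, h3⟩ := ih h2.2 (by have := sum_sub_single (β := d) (j := j) (m := 1) h2.1; omega)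
        have h4 := Nat.mul_le_mul_left p h2.1
        refine ⟨c, fun _ _ => hc, fun s => (if_pos (by simp; omega)).trans ((congrArg (Xc · _) (funext fun i => ?_)).trans (h3 s))⟩
        simp only [Pi.add_apply, Pi.single_apply, Pi.smul_apply, smul_eq_mul, Pi.sub_apply]
        split_ifs <;> subst_vars <;> simp [Nat.mul_sub]; omega
      refine ⟨0, fun a b => (h2 ⟨a, b⟩).elim, fun s => ?_⟩
      rw [Nat.cast_zero, zero_mul, ite_eq_right_iff]
      refine fun h3 => by_contra fun h4 => ?_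
      obtain ⟨i, hi, hi'⟩ : ∃ i, κ i + p = κ j ∧ d i = d j := by
        rcases Nat.eq_zero_or_pos (d j) with e | e
        · obtain ⟨i, hi⟩ := h.2 j (by simpa [e] using h3)
          exact ⟨i, hi, by have := hd i j hi; omega⟩
        simp only [e, true_and, Mono, not_forall, Pi.sub_apply, Pi.single_apply] at h2
        obtain ⟨a, b, hab, h2⟩ := h2
        have := hd a b hab
        split_ifs at h2 <;> subst_vars <;> first | omega | exact ⟨a, hab, by omega⟩
      have hij : i ≠ j := fun e => by subst e; omega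
      exact hij (Xc_inj h4 (by simp [hij, hi']; omega))
    choose c hc h1 using h1
    obtain ⟨j, hj, h2⟩ := exists_min_image {j | 0 < d j} κ (by
      obtain ⟨j, -, hj⟩ := exists_ne_zero_of_sum_ne_zero (hw.trans_ne w.succ_ne_zero); exact ⟨j, by simp; omega⟩)
    refine ⟨∑ j, c j, (hc j (by simpa using hj) fun a b hab => ?_).trans_le (single_le_sum (fun _ _ => Nat.zero_le _) (mem_univ j)),
      fun s => by rw [Multiset.replicate_succ, Multiset.cons_add, Xc_cons, Nat.cast_sum, sum_mul]; simp only [h1]⟩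
    have := hd a b hab
    have := h2 a
    simp only [Pi.sub_apply, Pi.single_apply, mem_filter, mem_univ, true_and] at *
    split_ifs <;> subst_vars <;> omega

variable (α) in
/-- the irreducible characters with the same core as `κ`. -/
def Blk (p : ℕ) (κ : Fin N → ℕ) : Set (IrrCharacter (Perm α)) := {χ | ∃ β : Fin N → ℕ, Lab β χ ∧ cnt p β = cnt p κ}

theorem Settled.mem_Blk (h : Settled p κ) (hp : 0 < p) {χ : IrrCharacter (Perm α)} :
    χ ∈ Blk α p κ ↔ ∃ d, Mono p κ d ∧ Lab (κ + p • d) χ := by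
  refine ⟨fun ⟨β, h1, h2⟩ => ?_, fun ⟨d, _, h1⟩ => ⟨_, h1, cnt_add _ _⟩⟩
  obtain ⟨κ', d, h3, h4, rfl⟩ := exists_core hp h1.inj
  obtain ⟨σ, rfl⟩ := h.exists_comp h3 hp ((cnt_add _ _).symm.trans h2)
  exact ⟨d ∘ σ, fun i j => h4 _ _, h1.comp σ⟩

theorem exists_mem_Blk (hp : 0 < p) (hN : Fintype.card α ≤ N) (χ : IrrCharacter (Perm α)) :
    ∃ κ : Fin N → ℕ, Settled p κ ∧ χ ∈ Blk α p κ := by
  obtain ⟨β, hβ⟩ := exists_lab' hN χ
  obtain ⟨κ, d, h1, -, rfl⟩ := exists_core hp hβ.inj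
  exact ⟨κ, h1, _, hβ, cnt_add _ _⟩

open scoped Classical in
theorem sum_Blk (κ : Fin N → ℕ) (x y : Perm α) :
    ∑ β ∈ piAntidiag (univ : Finset (Fin N)) (Fintype.card α + ∑ i : Fin N, (i : ℕ)) with cnt p β = cnt p κ, chi β x * chi β y =
      N ! * ∑ χ with χ ∈ Blk α p κ, χ.1 x * χ.1 y := by
  have h1 : ∀ β : Fin N → ℕ, Sz β (Fintype.card α) → chi β x * chi β y = ∑ χ with Lab β χ, χ.1 x * χ.1 y := fun β hβ => by
    by_cases hi : β.Injective
    · obtain ⟨χ, hχ⟩ := exists_lab hi hβ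
      rw [sum_eq_single_of_mem χ (by simpa) fun ψ hψ e => (e ((mem_filter.1 hψ).2.unique hχ)).elim, hχ.mul_eq]
    · rw [show chi β x = 0 from by_contra fun e => hi (Xc_inj e), zero_mul]
      exact (sum_eq_zero fun χ hχ => (hi (mem_filter.1 hχ).2.inj).elim).symm
  rw [sum_congr rfl fun β hβ => h1 β (mem_piAntidiag.1 (mem_filter.1 hβ).1).1, sum_comm' (t' := {χ | χ ∈ Blk α p κ})
    (s' := fun χ => {β ∈ piAntidiag (univ : Finset (Fin N)) (Fintype.card α + ∑ i : Fin N, (i : ℕ)) | Lab β χ}), mul_sum]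
  · refine sum_congr rfl fun χ hχ => ?_
    obtain ⟨β, hβ, -⟩ := (mem_filter.1 hχ).2
    rw [sum_const, nsmul_eq_mul, ← card_nbij (s := univ) (fun σ : Perm (Fin N) => β ∘ σ) (fun σ _ => by
        simpa using ⟨(hβ.comp σ).sz, hβ.comp σ⟩) (fun σ _ τ _ e => Equiv.ext fun i => hβ.inj (congrFun e i))
      fun γ hγ => by simpa using hβ.exists_comp (mem_filter.1 hγ).2, card_univ, Fintype.card_perm, Fintype.card_fin]
  · refine fun β χ => ?_
    simp only [mem_filter, mem_univ, true_and]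
    refine ⟨fun ⟨⟨a, b⟩, c⟩ => ⟨⟨a, c⟩, β, c, b⟩, fun ⟨⟨a, b⟩, γ, c, e⟩ => ⟨⟨a, ?_⟩, b⟩⟩
    obtain ⟨σ, rfl⟩ := c.exists_comp b
    exact (cnt_comp _ _).trans e

theorem not_dvd_of_mem_parts {x : Perm α} (hx : ¬ p ∣ orderOf x) {m : ℕ} (hm : m ∈ x.partition.parts) : ¬ p ∣ m :=
  fun h => hx (h.trans (orderOf_eq x ▸ Multiset.dvd_lcm hm))

open scoped Classical in
theorem orth_Blk (hp : p.Prime) (hN : Fintype.card α ≤ N) (κ : Fin N → ℕ) {x y : Perm α} (hx : ¬ p ∣ orderOf x)
    (hy : p ∣ orderOf y) : ∑ χ with χ ∈ Blk α p κ, χ.1 x * χ.1 y = 0 := by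
  obtain ⟨m, hm, hpm⟩ := hp.prime.exists_mem_multiset_dvd
    ((orderOf_eq y ▸ hy).trans (Multiset.lcm_dvd.2 fun _ => Multiset.dvd_prod))
  obtain ⟨s, hs⟩ := Multiset.exists_cons_of_mem hm
  have h1 := y.partition.parts_sum
  rw [hs, Multiset.sum_cons] at h1
  have h2 : ∀ (γ : Fin N → ℕ) j, cnt p (γ + Pi.single j m) = cnt p γ := fun γ j => cnt_congr fun i => by
    obtain ⟨c, rfl⟩ := hpm
    rw [Pi.add_apply, Pi.single_apply]; split_ifs <;> simp
  refine (mul_eq_zero.1 ((sum_Blk κ x y).symm.trans ?_)).resolve_left (mod_cast N.factorial_ne_zero)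
  have h3 : ∀ j, ∑ β ∈ piAntidiag (univ : Finset (Fin N)) (Fintype.card α + ∑ i : Fin N, (i : ℕ)) with cnt p β = cnt p κ,
      chi β x * (if m ≤ β j then Xc (β - Pi.single j m) s else 0) =
      ∑ γ ∈ piAntidiag (univ : Finset (Fin N)) (s.sum + ∑ i : Fin N, (i : ℕ)) with cnt p γ = cnt p κ, chi (γ + Pi.single j m) x * Xc γ s := fun j => by
    simp only [mul_ite, mul_zero, ← sum_filter]
    refine (sum_nbij' (· + Pi.single j m) (· - Pi.single j m) (fun γ hγ => ?_) (fun β hβ => ?_) (fun γ _ => by simp)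
      (fun β hβ => sub_add_single (mem_filter.1 hβ).2) fun γ _ => by simp).symm
    · simp [mem_pA, -mem_piAntidiag, sum_add_distrib, h2] at hγ ⊢; exact ⟨by omega, hγ.2⟩
    · simp only [mem_filter, mem_pA] at hβ ⊢
      have := sum_sub_single hβ.2
      exact ⟨by omega, by rw [← h2 _ j, sub_add_single hβ.2, hβ.1.2]⟩
  simp only [show ∀ β : Fin N → ℕ, chi β y = _ from fun β => (congrArg (Xc β) hs).trans (Xc_cons β m s), mul_sum]
  rw [sum_comm]
  simp only [h3]
  rw [sum_comm]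
  refine sum_eq_zero fun γ _ => ?_
  rw [← sum_mul, show ∑ j, chi (γ + Pi.single j m) x = 0 from sum_Xc_add (y.partition.parts_pos hm)
    (fun h => not_dvd_of_mem_parts hx h hpm) (x.partition.parts_sum.trans_le hN) γ, zero_mul]

end CL.Sym
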