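/-
Symmetric groups, part 5: the blocks (Nakayama's conjecture) and a lower bound for the defect groups.
-/
import Cfsg.Agent.Sym.Core
import Cfsg.Agent.Blk.DefectNum
import Cfsg.Agent.Blk.Section
import Cfsg.Agent.Blk.Cover

set_option autoImplicit false
set_option linter.unusedSectionVars false
open Finset Equiv Equiv.Perm Cfsg CL.Char CL.Blk CL.Grp Subgroup
open scoped Nat Pointwise

namespace CL.Sym

section General
variable {G : Type*} [Group G] [Finite G] {M : Ideal AlgInt} {p : ℕ} [Fact p.Prime] {A B B' : Set (IrrCharacter G)}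

open scoped Classical in
/-- Osima: orthogonality characterises the unions of blocks. -/
theorem blockIdem_mem_of_orth (hM : IsPModular p M)
    (h : ∀ x y : G, ¬ p ∣ orderOf x → p ∣ orderOf y → ∑ χ with χ ∈ A, χ.1 x * χ.1 y = 0) : blockIdem A ∈ OG M G := by
  obtain ⟨P⟩ := (inferInstance : Nonempty (Sylow p G))
  have := Fintype.ofFinite (P : Subgroup G)
  refine mem_OG.2 fun x => ?_
  rw [coeff_blockIdem, blockCoeff_eq_sum]
  simp only [irr_conj]
  by_cases hx : p ∣ orderOf x
  · rw [h 1 x⁻¹ (by simpa using hM.1.ne_one) (by simpa), mul_zero]; exact zero_mem _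
  have h1 : ∑ u : (P : Subgroup G), ∑ χ with χ ∈ A, χ.1 u * χ.1 x⁻¹ = ∑ χ with χ ∈ A, χ.1 1 * χ.1 x⁻¹ := by
    refine sum_eq_single (1 : (P : Subgroup G)) (fun u _ hu => ?_) (by simp)
    obtain ⟨k, hk⟩ := exists_orderOf_eq_of_mem P.isPGroup' u.2
    simpa only [mul_comm] using h x⁻¹ u (by simpa) (hk ▸ dvd_pow_self p fun e => hu (Subtype.ext (by simpa [e] using hk)))
  have h2 : (Nat.card G : ℂ)⁻¹ * ∑ χ with χ ∈ A, χ.1 1 * χ.1 x⁻¹ = (((P : Subgroup G).index : ℕ) : ℂ)⁻¹ *
      ∑ χ with χ ∈ A, ((Nat.card (P : Subgroup G) : ℂ)⁻¹ * ∑ u : (P : Subgroup G), χ.1 (1 * u)) * χ.1 x⁻¹ := by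
    simp only [one_mul, mul_assoc, ← mul_sum, sum_mul]
    rw [sum_comm, h1, ← mul_assoc, ← mul_inv, ← Nat.cast_mul, index_mul_card]
  rw [h2]
  exact mul_mem (inv_natCast_mem_valRing hM P.not_dvd_index) (mem_valRing_of_isIntegral M (IsIntegral.sum _ fun χ _ =>
    (isIntegral_avg_char χ.2.isCharacter _ (one_mem _)).mul (irr_isIntegral χ _)))

theorem exists_conj_le_of_ne_zero (hM : IsPModular p M) (hB : IsPBlock M B) {D : Subgroup G} (hD : IsDefectGroup p M B D)
    {χ : IrrCharacter G} (hχ : χ ∈ B) {z : G} (hz : ∃ k, orderOf z = p ^ k) (h0 : χ.1 z ≠ 0) {E : Subgroup G}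
    (hE : IsPGroup p E) (hEz : E ≤ centralizer {z}) [(E.subgroupOf (centralizer {z})).Normal] :
    ∃ x : G, MulAut.conj x • E ≤ D := by
  obtain ⟨ξ, hξ⟩ := indSet_nonempty_of_ne_zero hM hB hχ (isPPart_self hM.1 hz) h0
  have hb := isPBlock_blockOf_irr M ξ
  obtain ⟨D', hD'⟩ := exists_isDefectGroup hM hb
  obtain ⟨x, hx⟩ := exists_conj_le_defectGroup_of_isInducedBlock hM hb hB (mem_indSet.1 hξ) hD' hD
  refine ⟨x, le_trans (pointwise_smul_le_pointwise_smul_iff.2 ?_) hx⟩
  rw [← map_subgroupOf_eq_of_le hEz]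
  exact map_mono (le_defectGroup_of_normal hM hb hD' hE.comap_subtype)

theorem block_eq_of_section (hM : IsPModular p M) (hB : IsPBlock M B) (hB' : IsPBlock M B') {z : G}
    (hz : ∃ k, orderOf z = p ^ k) {E : Subgroup (centralizer ({z} : Set G))} [E.Normal] (hE : IsPGroup p E)
    (hA : B ⊆ A) (hA' : B' ⊆ A) (h0 : ∀ χ ∈ A, χ.1 z ≠ 0) (t : G → ℂ) (h : ∀ χ ∈ A,
      ∀ y ∈ centralizer (E : Set (centralizer ({z} : Set G))), ¬ p ∣ orderOf y → χ.1 (z * y)⁻¹ = χ.1 z⁻¹ * t y) : B = B' := by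
  classical
  have h1 : ∀ B, IsPBlock M B → B ⊆ A → ∀ y ∈ centralizer (E : Set (centralizer ({z} : Set G))), ¬ p ∣ orderOf y →
      blockCoeff (indSet M _ B) y = blockCoeff (indSet M (centralizer {z}) B) 1 * t y := fun B hB hA y hy hy' => by
    have h1 : ¬ p ∣ orderOf (1 : centralizer ({z} : Set G)) := by simpa using hM.1.ne_one
    simp only [blockCoeff_eq_sum, irr_conj]
    rw [← sum_section_eq hM hB hz h1 hy', ← sum_section_eq hM hB hz h1 h1, mul_assoc, sum_mul]
    exact congrArg _ (sum_congr rfl fun χ hχ => by rw [h χ (hA (mem_filter.1 hχ).2) y hy hy']; simp [mul_assoc])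
  wlog hv : val M (blockCoeff (indSet M (centralizer {z}) B') 1) ≤ val M (blockCoeff (indSet M (centralizer {z}) B) 1)
    generalizing B B'
  · exact (this hB' hB hA' hA (not_le.1 hv).le).symm
  obtain ⟨c, hc, e⟩ : ∃ c ∈ valRing M, blockCoeff (indSet M (centralizer {z}) B') 1 =
      c * blockCoeff (indSet M (centralizer {z}) B) 1 := by
    by_cases h2 : blockCoeff (indSet M (centralizer {z}) B) 1 = 0
    · exact ⟨0, zero_mem _, by simpa [h2] using hv⟩
    · exact ⟨_, (div_mem_valRing_iff h2).2 hv, (div_mul_cancel₀ _ h2).symm⟩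
  obtain ⟨χ, hχ⟩ := pblock_nonempty hM hB'
  obtain ⟨ξ, hξ⟩ := indSet_nonempty_of_ne_zero hM hB' hχ (isPPart_self hM.1 hz) (h0 χ (hA' hχ))
  refine by_contra fun hne => ?_
  have hb := isPBlock_blockOf_irr M ξ
  obtain ⟨D, hD⟩ := exists_isDefectGroup hM hb
  have hO := blockIdem_indSet_mem_OG hM (centralizer ({z} : Set G))
  have := lam_eq_zero_of_trunc_defectGroup hM hb hD (self_mem_blockOf hM ξ)
    (sub_mem (eBlk_mem_center (indSet M _ B')) (Subalgebra.smul_mem _ (eBlk_mem_center (indSet M _ B)) (red M c))) fun y hy => by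
      rw [coeff_sub_apply, coeff_smul_mul, coeff_eBlk, coeff_eBlk, ← red_mul hc (coeff_blockIdem (indSet M _ B) y ▸ coeff_mem_valRing (hO B) y),
        sub_eq_zero]
      refine congrArg _ ?_
      by_cases hy' : p ∣ orderOf y
      · rw [blockCoeff_eq_zero_of_dvd_orderOf hM (hO B) hy', blockCoeff_eq_zero_of_dvd_orderOf hM (hO B') hy', mul_zero]
      · have hy := centralizer_le (le_defectGroup_of_normal hM hb hD hE) hy
        rw [h1 B hB hA y hy hy', h1 B' hB' hA' y hy hy', e, mul_assoc]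
  rw [map_sub, map_smul, lam_eBlk_of_mem' (hO B') hξ, lam_eBlk_of_notMem' (hO B) fun h' =>
    hne (isInducedBlock_unique hM (mem_indSet.1 h') (mem_indSet.1 hξ))] at this
  simp at this

end General

variable {α : Type*} [Fintype α] [DecidableEq α] {N p w : ℕ} {κ d : Fin N → ℕ} {z : Perm α}

/-- the group generated by the cycles of `z`. -/
def Ez (z : Perm α) : Subgroup (Perm α) := closure (z.cycleFactorsFinset : Set (Perm α))

theorem Ez_eq (z : Perm α) : Ez z = (noncommPiCoprod z.pairwise_commute_of_mem_zpowers).range := by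
  rw [noncommPiCoprod_range, Ez]
  simp only [zpowers_eq_closure, ← Subgroup.closure_iUnion]
  congr; ext; simp

theorem Ez_le (z : Perm α) : Ez z ≤ centralizer {z} :=
  (closure_le _).2 fun _ hc => mem_centralizer_singleton_iff.2 (self_mem_cycle_factors_commute hc)

instance (z : Perm α) : ((Ez z).subgroupOf (centralizer {z})).Normal := ⟨fun e he k => by
  rw [mem_subgroupOf] at he ⊢
  refine closure_induction (p := fun e _ => k.1 * e * k.1⁻¹ ∈ Ez z) (fun c hc => subset_closure ?_) (by simp)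
    (fun a b _ _ ha hb => by simpa using mul_mem ha hb) (fun a _ ha => by simpa [mul_assoc] using inv_mem ha) he
  have := (mem_cycleFactorsFinset_conj z k c).2 hc
  rwa [mem_centralizer_singleton_iff.1 k.2, mul_inv_cancel_right] at this⟩

theorem orderOf_of_mem (hz : z.cycleType = Multiset.replicate w p) {c : Perm α} (hc : c ∈ z.cycleFactorsFinset) :
    orderOf c = p := by
  rw [(mem_cycleFactorsFinset_iff.1 hc).1.orderOf]
  have : #c.support ∈ z.cycleType := Multiset.mem_map_of_mem (card ∘ support) hc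
  exact Multiset.eq_of_mem_replicate (hz ▸ this)

theorem card_Ez (hz : z.cycleType = Multiset.replicate w p) : Nat.card (Ez z) = p ^ w := by
  have : Function.Injective (noncommPiCoprod z.pairwise_commute_of_mem_zpowers) := fun a b e =>
    (Prod.ext_iff.1 (OnCycleFactors.kerParam_injective z (a₁ := (1, a)) (a₂ := (1, b)) (by
      simpa [OnCycleFactors.kerParam] using e))).2
  rw [Ez_eq, ← Nat.card_congr (MonoidHom.ofInjective this).toEquiv, Nat.card_pi,
    prod_congr rfl fun c _ => (Nat.card_zpowers c.1).trans (orderOf_of_mem hz c.2), prod_const, card_univ, Fintype.card_coe]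
  simpa [cycleType_def] using congrArg (p ^ Multiset.card ·) hz

theorem Ez_comm (z : Perm α) : IsMulCommutative (Ez z) :=
  isMulCommutative_closure fun _ ha _ hb => cycleFactorsFinset_mem_commute' z ha hb

theorem Ez_pow (hz : z.cycleType = Multiset.replicate w p) {e : Perm α} (he : e ∈ Ez z) : e ^ p = 1 := by
  obtain ⟨v, rfl⟩ := Ez_eq z ▸ he
  rw [← map_pow, show v ^ p = 1 from funext fun c => Subtype.ext ?_, map_one]
  obtain ⟨k, hk⟩ := (v c).2
  simp only [Pi.pow_apply, SubgroupClass.coe_pow, ← hk, Pi.one_apply, OneMemClass.coe_one]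
  rw [← zpow_natCast, zpow_comm, zpow_natCast, ← orderOf_of_mem hz c.2, pow_orderOf_eq_one, one_zpow]

theorem disjoint_of_mem_centralizer (hp : p.Prime) (hz : z.cycleType = Multiset.replicate w p) {g : Perm α}
    (hg : ∀ e ∈ Ez z, e * g = g * e) (hg' : ¬ p ∣ orderOf g) : z.Disjoint g := fun a => or_iff_not_imp_left.2 fun ha => by
  have hc := cycleOf_mem_cycleFactorsFinset_iff.2 (mem_support.2 ha)
  have h1 : Commute g (z.cycleOf a) := (hg _ (subset_closure hc)).symm
  have h2 : a ∈ (z.cycleOf a).support := by simpa using ha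
  obtain ⟨k, hk⟩ := (mem_cycleFactorsFinset_iff.1 hc).1.exists_pow_eq (mem_support.1 h2)
    (mem_support.1 ((mem_support_iff_of_commute h1 a).2 h2))
  have h3 : ∀ j, (g ^ j) a = ((z.cycleOf a ^ k) ^ j) a := fun j => by
    induction j with
    | zero => rfl
    | succ j ih => rw [pow_succ', mul_apply, ih, ← mul_apply, ((h1.pow_right k).pow_right j).eq, mul_apply, ← hk, pow_succ]; rfl
  have h4 : Function.IsPeriodicPt g p a := by
    rw [Function.IsPeriodicPt, Function.IsFixedPt, iterate_eq_pow, h3, pow_right_comm, ← orderOf_of_mem hz hc]; simp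
  have h5 : Function.IsPeriodicPt g (orderOf g) a := by
    rw [Function.IsPeriodicPt, Function.IsFixedPt, iterate_eq_pow]; simp
  simpa [(hp.coprime_iff_not_dvd.2 hg').gcd_eq_one, Function.IsPeriodicPt, Function.IsFixedPt] using h4.gcd h5

theorem parts_mul (hz : z.cycleType = Multiset.replicate w p) {g : Perm α} (hg : z.Disjoint g) : (z * g).partition.parts =
    Multiset.replicate w p + (g.cycleType + Multiset.replicate (Fintype.card α - #(z * g).support) 1) := by
  rw [parts_partition, hg.cycleType_mul, hz, add_assoc]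

theorem orderOf_z (hp : p.Prime) (hz : z.cycleType = Multiset.replicate w p) : ∃ k, orderOf z = p ^ k := by
  have := Fact.mk hp
  exact ((Nat.dvd_prime_pow hp (m := 1)).1 (by
    rw [pow_one, orderOf_dvd_iff_pow_eq_one, pow_prime_eq_one_iff, hz]; exact fun _ => Multiset.eq_of_mem_replicate)).imp
    fun _ => And.right

/-- `κ` is a core, of weight `w` for the degree `n`. -/
structure IsCore (p : ℕ) (κ : Fin N → ℕ) (w n : ℕ) : Prop where
  st : Settled p κ
  sz : ∑ i, κ i + p * w = n + ∑ i : Fin N, (i : ℕ)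
  le : n ≤ N

namespace IsCore
variable [hp : Fact p.Prime] (h : IsCore p κ w (Fintype.card α)) {M : Ideal AlgInt} {B : Set (IrrCharacter (Perm α))}
include h

theorem sum_eq {χ : IrrCharacter (Perm α)} (hχ : Lab (κ + p • d) χ) : ∑ i, d i = w := by
  have := hχ.sz
  simp only [Sz, Pi.add_apply, Pi.smul_apply, smul_eq_mul, sum_add_distrib, ← mul_sum, ← h.sz] at this
  exact Nat.eq_of_mul_eq_mul_left hp.1.pos (Nat.add_left_cancel this)

theorem exists_lab (hd : Mono p κ d) (hw : ∑ i, d i = w) : ∃ χ ∈ Blk α p κ, Lab (κ + p • d) χ := by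
  obtain ⟨χ, hχ⟩ := CL.Sym.exists_lab (α := α) (h.st.inj hd) (by
    simp only [Sz, Pi.add_apply, Pi.smul_apply, smul_eq_mul, sum_add_distrib, ← mul_sum, ← h.sz, hw])
  exact ⟨χ, (h.st.mem_Blk hp.1.pos).2 ⟨d, hd, hχ⟩, hχ⟩

theorem mul_le : p * w ≤ Fintype.card α := by
  have := sum_add_le (v := ∑ i, κ i + 1) h.st.1 fun i => (Nat.lt_succ_of_le (single_le_sum (f := κ) (fun _ _ => Nat.zero_le _)
    (mem_univ i))).ne
  have h0 : (univ.image fun i => (κ i : ℤ)).card = N := by
    rw [card_image_of_injective _ fun _ _ e => h.st.1 (by simpa using e), card_fin]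
  have h1 := sum_range_le_sum (s := univ.image fun i => (κ i : ℤ)) (c := 0) (by simp)
  rw [sum_image fun _ _ _ _ e => h.st.1 (by simpa using e), h0, sum_range] at h1
  have h2 := h.sz
  zify at h2 ⊢
  simp only [zero_add] at h1
  omega

theorem exists_z : ∃ z : Perm α, z.cycleType = Multiset.replicate w p :=
  (exists_with_cycleType_iff α).2 ⟨by simpa [mul_comm] using h.mul_le, fun _ ha => Multiset.eq_of_mem_replicate ha ▸ hp.1.two_le⟩

theorem exists_val (hz : z.cycleType = Multiset.replicate w p) {χ : IrrCharacter (Perm α)} (hχ : χ ∈ Blk α p κ) :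
    ∃ c : ℂ, c ≠ 0 ∧ ∀ g, z.Disjoint g → χ.1 (z * g) =
      c * Xc κ (g.cycleType + Multiset.replicate (Fintype.card α - #(z * g).support) 1) := by
  obtain ⟨d, hd, hl⟩ := (h.st.mem_Blk hp.1.pos).1 hχ
  obtain ⟨c, hc, h1⟩ := h.st.Xc_core hp.1.pos hd (h.sum_eq hl)
  have h2 := fun g hg => (congrArg (Xc (κ + p • d)) (parts_mul hz (g := g) hg)).trans (h1 _)
  rcases hl with e | e
  · exact ⟨c, mod_cast hc.ne', fun g hg => (congrFun e _).symm.trans (h2 g hg)⟩
  · exact ⟨-c, neg_ne_zero.2 (mod_cast hc.ne'), fun g hg => by rw [neg_mul, ← h2 g hg]; exact neg_eq_iff_eq_neg.1 (congrFun e _).symm⟩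

theorem Xc_ne (hz : z.cycleType = Multiset.replicate w p) :
    Xc κ (Multiset.replicate (Fintype.card α - #z.support) 1) ≠ 0 := by
  have h1 : Fintype.card (Fin (Fintype.card α - #z.support)) = Fintype.card α - p * w := by
    rw [Fintype.card_fin, ← sum_cycleType, hz]; simp [mul_comm]
  obtain ⟨χ, hχ⟩ := CL.Sym.exists_lab (α := Fin (Fintype.card α - #z.support)) h.st.1 (by
    have := h.sz; have := h.mul_le; rw [h1, Sz]; omega)
  simpa [chi, parts_partition] using hχ.one_ne

theorem apply_ne (hz : z.cycleType = Multiset.replicate w p) {χ : IrrCharacter (Perm α)} (hχ : χ ∈ Blk α p κ) :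
    χ.1 z ≠ 0 := by
  obtain ⟨c, hc, h1⟩ := h.exists_val hz hχ
  simpa [hc, h.Xc_ne hz] using (h1 1 (disjoint_one_right z)).trans_ne (mul_ne_zero hc (by simpa using h.Xc_ne hz))

theorem blockOf_subset (hM : IsPModular p M) {χ : IrrCharacter (Perm α)} (hχ : χ ∈ Blk α p κ) : blockOf M χ.1 ⊆ Blk α p κ :=
  blockOf_subset_of_mem_OG hM (blockIdem_mem_of_orth hM fun _ _ hx hy => by convert orth_Blk hp.1 h.le κ hx hy) hχ

/-- Nakayama's conjecture. -/
theorem eq_Blk (hM : IsPModular p M) (hB : IsPBlock M B) (hBκ : B ⊆ Blk α p κ) : B = Blk α p κ := by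
  obtain ⟨z, hz⟩ := h.exists_z
  refine hBκ.antisymm fun χ hχ => ?_
  rw [block_eq_of_section hM hB (isPBlock_blockOf_irr M χ) (orderOf_z hp.1 hz) (E := (Ez z).subgroupOf _)
    (IsPGroup.of_card (card_Ez hz)).comap_subtype hBκ (h.blockOf_subset hM hχ) (fun _ => h.apply_ne hz)
    (fun g => Xc κ (g.cycleType + Multiset.replicate (Fintype.card α - #(z * g).support) 1) /
      Xc κ (Multiset.replicate (Fintype.card α - #z.support) 1)) fun ψ hψ y hy hy' => ?_]
  · exact self_mem_blockOf hM χ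
  obtain ⟨c, -, h1⟩ := h.exists_val hz hψ
  have h2 : ∀ g : Perm α, ψ.1 g⁻¹ = ψ.1 g := fun g =>
    ψ.2.isClassFunction.apply_eq_of_isConj (isConj_iff_cycleType_eq.2 (cycleType_inv g))
  have h3 := h1 1 (disjoint_one_right z)
  rw [mul_one, cycleType_one, zero_add] at h3
  rw [h2, h2, h3, h1 y (disjoint_of_mem_centralizer hp.1 hz (fun e he => congrArg Subtype.val
    (hy ⟨e, Ez_le z he⟩ he)) (by simpa using hy')), mul_assoc, mul_div_cancel₀ _ (h.Xc_ne hz)]

theorem exists_conj_le (hM : IsPModular p M) (hB : IsPBlock M B) (hBκ : B ⊆ Blk α p κ) {D : Subgroup (Perm α)}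
    (hD : IsDefectGroup p M B D) (hz : z.cycleType = Multiset.replicate w p) : ∃ x : Perm α, MulAut.conj x • Ez z ≤ D := by
  obtain ⟨χ, hχ⟩ := pblock_nonempty hM hB
  exact exists_conj_le_of_ne_zero hM hB hD hχ (orderOf_z hp.1 hz) (h.apply_ne hz (hBκ hχ)) (.of_card (card_Ez hz)) (Ez_le z)

end IsCore

theorem exists_isCore [hp : Fact p.Prime] {M : Ideal AlgInt} (hM : IsPModular p M) {B : Set (IrrCharacter (Perm α))}
    (hB : IsPBlock M B) (hN : Fintype.card α ≤ N) :
    ∃ (κ : Fin N → ℕ) (w : ℕ), IsCore p κ w (Fintype.card α) ∧ B = Blk α p κ := by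
  obtain ⟨χ, rfl⟩ := hB
  obtain ⟨κ, hκ, hχ⟩ := exists_mem_Blk hp.1.pos hN χ
  obtain ⟨d, -, hd⟩ := (hκ.mem_Blk hp.1.pos).1 hχ
  have h : IsCore p κ (∑ i, d i) (Fintype.card α) := ⟨hκ, by simpa [Sz, sum_add_distrib, mul_sum] using hd.sz, hN⟩
  exact ⟨κ, _, h, h.eq_Blk hM ⟨χ, rfl⟩ (h.blockOf_subset hM hχ)⟩

end CL.Sym
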