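/-
Symmetric groups, part 6: a spanning set for the Brauer characters of a block, and how to count it.
-/
import Cfsg.Agent.Sym.Nak
import Cfsg.Agent.Fgs.SecRank
import Cfsg.Prelude.Def_BlockRank

set_option autoImplicit false
set_option linter.unusedSectionVars false
open Finset Equiv Equiv.Perm Cfsg CL.Char MvPolynomial
open scoped Nat Pointwise

namespace CL.Sym

variable {α : Type*} [Fintype α] [DecidableEq α] {N p w m : ℕ} {β γ κ d d' : Fin N → ℕ}

variable (α) in
/-- the linear extension of `β ↦ chi β` on the `p`-regular elements. -/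
noncomputable def Psi (p : ℕ) : MvPolynomial (Fin N) ℂ →ₗ[ℂ] (Perm α → ℂ) :=
  (basisMonomials (Fin N) ℂ).constr ℂ fun β => pRegularPart p (chi β)

theorem Psi_mon (β : Fin N → ℕ) : Psi α p (mon X β) = pRegularPart p (chi β) := by
  rw [mon_X, ← congrFun (coe_basisMonomials _ ℂ), Psi, Module.Basis.constr_basis]; rfl

theorem Psi_ps (hN : Fintype.card α ≤ N) {k : ℕ} (hk : 0 < k) (hpk : p ∣ k) (f : MvPolynomial (Fin N) ℂ) :
    Psi α p (f * ps X k) = 0 := by
  induction f using mon_induction with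
  | h1 c γ =>
    simp only [smul_mul_assoc, map_smul, ps, mul_sum, ← mon_single, ← mon_add, map_sum, Psi_mon, ← smul_sum]
    refine smul_eq_zero_of_right _ (funext fun g => ?_)
    simp only [Finset.sum_apply, pRegularPart, Pi.zero_apply]
    split_ifs with h
    · exact sum_Xc_add hk (fun h' => not_dvd_of_mem_parts h h' hpk) (g.partition.parts_sum.trans_le hN) γ
    · simp
  | h2 f g hf hg => rw [add_mul, map_add, hf, hg, add_zero]

theorem pReg_comp (β : Fin N → ℕ) (σ : Perm (Fin N)) :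
    pRegularPart p (chi (β ∘ σ) : Perm α → ℂ) = sign σ • pRegularPart p (chi β) := funext fun g => by
  simp only [pRegularPart, chi, Xc_comp, Pi.smul_apply, smul_ite, smul_zero]

theorem Psi_alt (e : Fin m ↪ Fin N) {r : ℕ} (hγ : ∀ k, γ (e k) = r) (a : Fin m → ℕ) :
    Psi α p (mon X γ * alt (fun k => X (e k) ^ p) a) = m ! • pRegularPart p (chi (γ + p • Function.extend e a 0)) := by
  have h1 : ∀ a : Fin m → ℕ, mon (fun k => X (e k) ^ p) a = (mon X (p • Function.extend e a 0) : MvPolynomial (Fin N) ℂ) :=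
    fun a => prod_of_injOn e e.injective.injOn (fun _ _ => mem_univ _) (fun i _ hi => by
      rw [Pi.smul_apply, Function.extend_apply' _ _ _ (by simpa using hi)]; simp) fun k _ => by
      simp [e.injective.extend_apply, pow_mul]
  have h2 : ∀ σ : Perm (Fin m), γ + p • Function.extend e (a ∘ σ) 0 = (γ + p • Function.extend e a 0) ∘ σ.viaFintypeEmbedding e :=
    fun σ => funext fun i => by
      by_cases hi : i ∈ Set.range e
      · obtain ⟨k, rfl⟩ := hi
        simp [viaFintypeEmbedding_apply_image, e.injective.extend_apply, hγ]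
      · simp [viaFintypeEmbedding_apply_notMem_range _ _ hi, Function.extend_apply' _ _ _ hi]
  simp only [alt_eq, mul_sum, mul_smul_comm, h1, ← mon_add, map_sum, Units.smul_def, map_zsmul, Psi_mon, h2, pReg_comp,
    viaFintypeEmbedding_sign, smul_smul, ← Units.val_mul, Int.units_mul_self]
  simp [Fintype.card_perm]

/-- the total height of the beads on a runner. -/
def wt (p : ℕ) (β : Fin N → ℕ) (r : ℕ) : ℕ := ∑ j with β j % p = r, β j

theorem wt_comp (β : Fin N → ℕ) (σ : Perm (Fin N)) (r : ℕ) : wt p (β ∘ σ) r = wt p β r :=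
  sum_equiv σ (fun _ => by simp) fun _ _ => rfl

theorem wt_add (κ d : Fin N → ℕ) (r : ℕ) : wt p (κ + p • d) r = wt p κ r + p * ∑ j with κ j % p = r, d j := by
  simp [wt, sum_add_distrib, mul_sum]

variable (α) in
/-- the characters of the block without displacement on the runner `r`. -/
def Blk0 (p : ℕ) (κ : Fin N → ℕ) (r : ℕ) : Set (IrrCharacter (Perm α)) :=
  {χ | ∃ d, Mono p κ d ∧ Lab (κ + p • d) χ ∧ ∀ j, κ j % p = r → d j = 0}

theorem pReg_mem {χ : IrrCharacter (Perm α)} (h : Lab β χ) {W : Submodule ℂ (Perm α → ℂ)} :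
    pRegularPart p (chi β) ∈ W ↔ pRegularPart p χ.1 ∈ W := by
  rcases h with e | e <;> rw [e]
  rw [← W.neg_mem_iff]
  exact Eq.to_iff (congrArg (· ∈ W) (funext fun g => by simp only [pRegularPart, Pi.neg_apply]; split_ifs <;> simp))

theorem IsCore.mem_span [hp : Fact p.Prime] (h : IsCore p κ w (Fintype.card α)) {r : ℕ} (hr : r < p)
    {χ : IrrCharacter (Perm α)} (hχ : χ ∈ Blk α p κ) :
    pRegularPart p χ.1 ∈ Submodule.span ℂ ((fun χ : IrrCharacter (Perm α) => pRegularPart p χ.1) '' Blk0 α p κ r) := by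
  set W := Submodule.span ℂ ((fun χ : IrrCharacter (Perm α) => pRegularPart p χ.1) '' Blk0 α p κ r)
  have hp0 := hp.1.pos
  have h1 : ∀ k : Fin (cnt p κ r), ∃ i, κ i = r + p * k := fun k => (h.st.mem_iff hp0 _).2 (by
    simp [Nat.add_mul_div_left _ _ hp0, Nat.mod_eq_of_lt hr, Nat.div_eq_of_lt hr])
  choose e he using h1
  replace e' : e.Injective := fun a b e' => Fin.ext (Nat.eq_of_mul_eq_mul_left hp0 (by
    have := he a; have := he b; rw [e'] at *; omega))
  lift e to Fin (cnt p κ r) ↪ Fin N using e'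
  have h1 : ∀ i, i ∈ Set.range e ↔ κ i % p = r := fun i => ⟨fun ⟨k, hk⟩ => by simp [← hk, he, Nat.mod_eq_of_lt hr], fun hi =>
    ⟨⟨κ i / p, hi ▸ (h.st.mem_iff hp0 _).1 ⟨i, rfl⟩⟩, h.st.1 ((he _).trans (by subst hi; exact Nat.mod_add_div _ _))⟩⟩
  have h2 : ∀ (s : Multiset ℕ) (γ : Fin N → ℕ), (∀ a ∈ s, 0 < a) → (∀ k, γ (e k) = r) → (∀ i, γ i % p = κ i % p) →
      Psi α p (mon X γ * ((s.map (ps fun k => X (e k) ^ p)).prod * alt (fun k => X (e k) ^ p) Fin.val)) ∈ W := fun s => by
    induction s using Multiset.induction_on with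
    | empty =>
      intro γ _ h2 h3
      rw [Multiset.map_zero, Multiset.prod_zero, one_mul, Psi_alt e h2]
      refine nsmul_mem ?_ _
      by_cases h0 : (chi (γ + p • Function.extend e Fin.val 0) : Perm α → ℂ) = 0
      · rw [h0, show pRegularPart p (0 : Perm α → ℂ) = 0 from funext fun _ => ite_self _]; exact zero_mem _
      obtain ⟨g, hg⟩ := Function.ne_iff.1 h0
      obtain ⟨ψ, hψ⟩ := CL.Sym.exists_lab (α := α) (Xc_inj hg) (g.partition.parts_sum ▸ Xc_sz hg)
      obtain ⟨d, hd, hd'⟩ := (h.st.mem_Blk hp0).1 ⟨_, hψ, (cnt_add _ _).trans (cnt_congr h3)⟩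
      refine (pReg_mem hψ).2 (Submodule.subset_span ⟨ψ, ⟨d, hd, hd', fun j hj => ?_⟩, rfl⟩)
      obtain ⟨σ, hσ⟩ := hψ.exists_comp hd'
      have h4 : wt p (κ + p • d) r = wt p κ r := by
        rw [← hσ, wt_comp]
        refine sum_congr (filter_congr fun i _ => by simp [h3]) fun i hi => ?_
        obtain ⟨k, rfl⟩ := (h1 i).2 (mem_filter.1 hi).2
        simp [e.injective.extend_apply, h2, he]
      rw [wt_add] at h4
      exact sum_eq_zero_iff.1 ((Nat.mul_eq_zero.1 (Nat.add_eq_left.1 h4)).resolve_left hp0.ne') j (by simpa)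
    | cons k s ih =>
      intro γ h0 h2 h3
      have h4 : (ps (fun k => X (e k) ^ p) k : MvPolynomial (Fin N) ℂ) = ps X (p * k) - ∑ i with i ∉ Set.range e, X i ^ (p * k) := by
        rw [eq_sub_iff_add_eq, ps, ps, ← sum_filter_add_sum_filter_not univ (· ∈ Set.range e)]
        exact congrArg (· + _) (sum_nbij e (by simp) e.injective.injOn (fun _ => by simp) fun _ _ => (pow_mul _ _ _).symm)
      rw [Multiset.map_cons, Multiset.prod_cons, mul_assoc, mul_comm (ps _ k), ← mul_assoc, h4, mul_sub, map_sub,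
        Psi_ps h.le (Nat.mul_pos hp0 (h0 k (Multiset.mem_cons_self _ _))) (dvd_mul_right _ _), zero_sub, mul_sum, map_sum]
      refine neg_mem (sum_mem fun i hi => ?_)
      rw [mul_right_comm, ← mon_single, ← mon_add]
      refine ih _ (fun a ha => h0 a (Multiset.mem_cons_of_mem ha)) (fun k => ?_) fun j => ?_
      · rw [Pi.add_apply, Pi.single_eq_of_ne fun e' => (mem_filter.1 hi).2 ⟨k, e'⟩, h2, add_zero]
      · rw [Pi.add_apply, Pi.single_apply]; split_ifs <;> simp [h3]
  obtain ⟨d, -, hd⟩ := (h.st.mem_Blk hp0).1 hχ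
  let γ : Fin N → ℕ := fun i => if κ i % p = r then r else κ i + p * d i
  have h3 : ∀ k, γ (e k) = r := fun k => if_pos ((h1 _).1 ⟨k, rfl⟩)
  have h4 := Psi_alt (α := α) (p := p) e h3 fun k => k + d (e k)
  rw [show γ + p • Function.extend e (fun k => k + d (e k)) 0 = κ + p • d from funext fun i => by
    by_cases hi : i ∈ Set.range e
    · obtain ⟨k, rfl⟩ := hi
      simp [e.injective.extend_apply, h3, he, mul_add, add_assoc]
    · simp [γ, Function.extend_apply' _ _ _ hi, mt (h1 i).2 hi]] at h4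
  have h5 := congrArg (fun f => Psi α p (mon X γ * f)) (sum_chi_smul (α := Fin (∑ k, d (e k)))
    (fun k => (X (e k) ^ p : MvPolynomial (Fin N) ℂ)) (β := fun k => k + d (e k)) (by simp [Sz, sum_add_distrib, add_comm]))
  simp only [mul_sum, mul_smul_comm, map_sum, map_smul, h4, Pz_eq_prod, smul_smul, ← Nat.cast_smul_eq_nsmul ℂ] at h5
  have h6 := h5 ▸ sum_mem (S := W) fun (g : Perm (Fin (∑ k, d (e k)))) _ => W.smul_mem (chi (fun k => k + d (e k)) g)
    (h2 _ γ (fun _ => g.partition.parts_pos) h3 fun i => by simp only [γ]; split_ifs with h6 <;> simp [h6, Nat.mod_eq_of_lt hr])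
  exact (pReg_mem hd).1 ((W.smul_mem_iff (mod_cast Nat.mul_ne_zero (Nat.factorial_ne_zero _) (Nat.factorial_ne_zero _))).1 h6)

/-- the coloured partition attached to the displacements `d`. -/
def code (p : ℕ) (κ d : Fin N → ℕ) : Multiset (ℕ × ℕ) := (filter (0 < d ·) univ).val.map fun j => (κ j % p, d j)

theorem mem_code {x : ℕ × ℕ} : x ∈ code p κ d ↔ ∃ j, 0 < d j ∧ (κ j % p, d j) = x := by simp [code]

theorem sum_code (f : ℕ → ℕ) : ((code p κ d).map fun x => f x.1 * x.2).sum = ∑ j, f (κ j % p) * d j := by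
  rw [code, Multiset.map_map, ← sum_eq_multiset_sum, sum_filter]
  exact sum_congr rfl fun j _ => by split_ifs with h <;> simp [*, Nat.eq_zero_of_not_pos]

theorem Settled.lt_iff (h : Settled p κ) (hd : Mono p κ d) (j : Fin N) (t : ℕ) : t < d j ↔
    #{i | κ i % p = κ j % p ∧ κ j ≤ κ i} ≤ (code p κ d).countP fun x => x.1 = κ j % p ∧ t < x.2 := by
  rw [code, Multiset.countP_map, ← filter_val, ← card_def, filter_filter]
  refine ⟨fun h1 => card_le_card fun i hi => ?_, fun h1 => by_contra fun h2 => h1.not_gt (card_lt_card ⟨fun i hi => ?_,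
    fun h3 => h2 (mem_filter.1 (h3 (show j ∈ _ by simp))).2.2.2⟩)⟩ <;> simp only [mem_filter, mem_univ, true_and] at hi ⊢
  · have := h.le hd hi.1.symm hi.2; omega
  · exact ⟨hi.2.1, by_contra fun h3 => by have := h.le hd hi.2.1 (not_le.1 h3).le; omega⟩

theorem Settled.eq_of_code (h : Settled p κ) (hd : Mono p κ d) (hd' : Mono p κ d') {j : Fin N}
    (e : (code p κ d).filter (·.1 = κ j % p) = (code p κ d').filter (·.1 = κ j % p)) : d j = d' j :=
  eq_of_forall_lt_iff fun t => by
    have := congrArg (Multiset.countP (t < ·.2)) e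
    simp only [Multiset.countP_filter, and_comm (a := t < _)] at this
    rw [h.lt_iff hd, h.lt_iff hd', this]

/-- coloured partitions with `c` colours of size at most `m`. -/
def Mt (c m : ℕ) : Set (Multiset (ℕ × ℕ)) := {C | (∀ x ∈ C, x.1 < c ∧ 0 < x.2) ∧ (C.map Prod.snd).sum ≤ m}

/-- reading a word as a coloured partition. -/
def dec {c : ℕ} : ℕ → List (Option (Fin c)) → Multiset (ℕ × ℕ)
  | _, [] => 0
  | k, none :: l => dec (k + 1) l
  | k, some r :: l => (r, k + 1) ::ₘ dec 0 l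

theorem dec_append {c : ℕ} (k j : ℕ) (l : List (Option (Fin c))) : dec k (List.replicate j none ++ l) = dec (k + j) l := by
  induction j generalizing k with
  | zero => rfl
  | succ j ih => rw [List.replicate_succ, List.cons_append, dec, ih, add_right_comm, add_assoc]

theorem Mt_subset (c m : ℕ) : Mt c m ⊆ univ.image fun v : List.Vector (Option (Fin c)) m => dec 0 v.1 := fun C hC => by
  suffices ∃ l : List (Option (Fin c)), l.length = m ∧ dec 0 l = C from this.elim fun l hl => by simpa using ⟨⟨l, hl.1⟩, hl.2⟩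
  induction C using Multiset.induction_on generalizing m with
  | empty => exact ⟨List.replicate m none ++ [], by simp, dec_append _ _ _⟩
  | cons x C ih =>
    have h1 := hC.1 x (Multiset.mem_cons_self _ _)
    have h2 : x.2 + (C.map Prod.snd).sum ≤ m := by simpa using hC.2
    obtain ⟨l, hl, rfl⟩ := ih (m - x.2) ⟨fun y hy => hC.1 y (Multiset.mem_cons_of_mem hy), by omega⟩
    exact ⟨List.replicate (x.2 - 1) none ++ some ⟨x.1, h1.1⟩ :: l, by simp; omega, by
      rw [dec_append, dec, zero_add, Nat.sub_add_cancel h1.2]⟩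

theorem Mt_finite (c m : ℕ) : (Mt c m).Finite := (Finset.finite_toSet _).subset (Mt_subset c m)

theorem ncard_Mt_le (c m : ℕ) : (Mt c m).ncard ≤ (c + 1) ^ m :=
  (Set.ncard_le_ncard (Mt_subset c m)).trans (by rw [Set.ncard_coe_finset]; exact card_image_le.trans (by simp))

theorem ncard_Mt_lt {c m : ℕ} (h : 2 ≤ c ∧ 2 ≤ m ∨ 1 ≤ c ∧ 3 ≤ m) : (Mt c m).ncard < (c + 1) ^ m := by
  refine (Set.ncard_le_ncard (Mt_subset c m)).trans_lt ?_
  rw [Set.ncard_coe_finset, show (c + 1) ^ m = #(univ : Finset (List.Vector (Option (Fin c)) m)) by simp]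
  refine card_image_le.lt_of_ne fun e => ?_
  have h0 : ∀ l l' : List (Option (Fin c)), l.length = m → l'.length = m → dec 0 l = dec 0 l' → l = l' := fun l l' h h' e' =>
    congrArg Subtype.val (card_image_iff.1 e (x₁ := ⟨l, h⟩) (mem_univ _) (x₂ := ⟨l', h'⟩) (mem_univ _) e')
  rcases h with ⟨h1, h2⟩ | ⟨h1, h2⟩
  · simpa [Fin.ext_iff] using h0 (some ⟨0, by omega⟩ :: some ⟨1, by omega⟩ :: List.replicate (m - 2) none)
      (some ⟨1, by omega⟩ :: some ⟨0, by omega⟩ :: List.replicate (m - 2) none) (by simp; omega) (by simp; omega)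
      (Multiset.cons_swap _ _ _)
  · simpa using h0 (some ⟨0, h1⟩ :: none :: some ⟨0, h1⟩ :: List.replicate (m - 3) none)
      (none :: some ⟨0, h1⟩ :: some ⟨0, h1⟩ :: List.replicate (m - 3) none) (by simp; omega) (by simp; omega)
      (Multiset.cons_swap _ _ _)

/-- the codes of the characters in `Blk0`. -/
theorem IsCore.exists_code [hp : Fact p.Prime] (h : IsCore p κ w (Fintype.card α)) :
    ∃ f : IrrCharacter (Perm α) → Multiset (ℕ × ℕ), Set.InjOn f (Blk0 α p κ (p - 1)) ∧
      ∀ χ ∈ Blk0 α p κ (p - 1), (∀ x ∈ f χ, x.1 < p - 1 ∧ 0 < x.2) ∧ ((f χ).map Prod.snd).sum = w := by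
  choose! d hd using fun χ (hχ : χ ∈ Blk0 α p κ (p - 1)) => hχ
  refine ⟨fun χ => code p κ (d χ), fun χ hχ ψ hψ e => (hd χ hχ).2.1.unique ((show d χ = d ψ from funext fun j =>
    h.st.eq_of_code (hd χ hχ).1 (hd ψ hψ).1 (congrArg _ e)) ▸ (hd ψ hψ).2.1), fun χ hχ => ⟨fun x hx => ?_, ?_⟩⟩
  · obtain ⟨j, hj, rfl⟩ := mem_code.1 hx
    have := Nat.mod_lt (κ j) hp.1.pos
    have := mt ((hd χ hχ).2.2 j) hj.ne'
    exact ⟨by omega, hj⟩
  · simpa [h.sum_eq (hd χ hχ).2.1] using sum_code (p := p) (κ := κ) (d := d χ) fun _ => 1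

theorem finrank_le_ncard {V : Type*} [AddCommGroup V] [Module ℂ V] {S T : Set V} (hT : T.Finite)
    (h : S ⊆ Submodule.span ℂ T) : Module.finrank ℂ (Submodule.span ℂ S) ≤ T.ncard := by
  have := hT.fintype
  have := Module.Finite.span_of_finite ℂ hT
  exact (Submodule.finrank_mono (Submodule.span_le.2 h)).trans ((finrank_span_le_card T).trans_eq (Set.ncard_eq_toFinset_card' T).symm)

theorem card_le_of_secRank {G : Type*} [Group G] {s : ℕ} {D E : Subgroup G} (hs : SectionalPRankLE p s D) (x : G)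
    (hE : MulAut.conj x • E ≤ D) (h1 : ∀ a ∈ E, ∀ b ∈ E, a * b = b * a) (h2 : ∀ a ∈ E, a ^ p = 1) : Nat.card E ≤ p ^ s := by
  let f : E →* D := ((MulAut.conj x).toMonoidHom.comp E.subtype).codRestrict D fun a => hE (CL.Grp.conj_mem_conj_smul x a.2)
  simpa using CL.Fgs.secRank_iff.1 (CL.Fgs.secRank_of_injective hs f fun a b e => by simpa [f] using e) ⊤ ⊥
    ⟨bot_le, fun a _ b _ => commutatorElement_eq_one_iff_mul_comm.2 (Subtype.ext (h1 a a.2 b b.2)),
      fun a _ => Subtype.ext (h2 a a.2)⟩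

theorem one_le_of_secRank {G : Type*} [Group G] [Finite G] [Fact p.Prime] {s : ℕ} {D : Subgroup G} (hD : IsPGroup p D)
    (hs : SectionalPRankLE p s D) (h1 : D ≠ ⊥) : 1 ≤ s := by
  have := (Subgroup.nontrivial_iff_ne_bot D).2 h1
  obtain ⟨n, hn, h2⟩ := hD.nontrivial_iff_card.1 this
  obtain ⟨a, ha⟩ := exists_prime_orderOf_dvd_card' (G := D) p (h2 ▸ dvd_pow_self p hn.ne')
  have := card_le_of_secRank hs 1 (E := Subgroup.zpowers a.1) (by simp) (fun _ ha _ hb => setLike_mul_comm ha hb)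
    fun b ⟨k, hk⟩ => by
      rw [← hk, ← zpow_natCast, zpow_comm, ← ha, ← Subgroup.orderOf_coe, zpow_natCast, pow_orderOf_eq_one, one_zpow]
  rw [Nat.card_zpowers, Subgroup.orderOf_coe, ha] at this
  exact Nat.pos_of_ne_zero fun e => (Fact.out : p.Prime).one_lt.not_ge (by simpa [e] using this)

end CL.Sym
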