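/-
Symmetric groups, part 7: multiplication by the sign character, self-associate characters.
-/
import Cfsg.Agent.Sym.Rank
import Cfsg.Agent.Sym.Alt0

set_option autoImplicit false
set_option linter.unusedSectionVars false
open Finset Equiv Equiv.Perm Cfsg CL.Char Sum
open scoped Nat

namespace CL.Sym

variable {α : Type*} [Fintype α] [DecidableEq α] {N p w : ℕ} {β γ κ d : Fin N → ℕ}

/-- the `2 N` positions. -/
def pos : Fin N ⊕ Fin N → ℕ := Sum.elim Fin.val fun i => 2 * N - 1 - i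

theorem pos_lt (x : Fin N ⊕ Fin N) : pos x < 2 * N := by rcases x with x | x <;> have := x.2 <;> simp [pos] <;> omega

theorem pos_inj : (pos : Fin N ⊕ Fin N → ℕ).Injective := by
  rintro (x | x) (y | y) h <;> have := x.2 <;> have := y.2 <;> simp [pos, Fin.ext_iff] at h ⊢ <;> omega

theorem exists_pos {v : ℕ} (h : v < 2 * N) : ∃ x : Fin N ⊕ Fin N, pos x = v :=
  if h' : v < N then ⟨inl ⟨v, h'⟩, rfl⟩ else ⟨inr ⟨2 * N - 1 - v, by omega⟩, by simp [pos]; omega⟩

/-- the beads. -/
def bL (σ : Perm (Fin N ⊕ Fin N)) (j : Fin N) : ℕ := pos (σ (inl j))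

/-- the reflected gaps. -/
def bR (σ : Perm (Fin N ⊕ Fin N)) (k : Fin N) : ℕ := 2 * N - 1 - pos (σ (inr k))

theorem Xc_cons_swap {π : Fin N ⊕ Fin N → ℕ} (hi : π.Injective) (hd : ∀ x v, v ≤ π x → ∃ y, π y = v) {m : ℕ} (hm : 0 < m)
    (s : Multiset ℕ) : Xc (fun j => π (inl j)) (m ::ₘ s) = ∑ j, ∑ k,
      if π (inr k) + m = π (inl j) then Xc (fun i => π (swap (inl j) (inr k) (inl i))) s else 0 := by
  rw [Xc_cons]
  refine sum_congr rfl fun j _ => ?_
  split_ifs with h
  · obtain ⟨y | y, hy⟩ := hd _ _ (Nat.sub_le (π (inl j)) m)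
    · have h1 : y ≠ j := fun e => by subst e; omega
      rw [sum_eq_zero fun k _ => if_neg fun e => inl_ne_inr (hi (show π (inl y) = π (inr k) by omega))]
      exact by_contra fun e => h1 (Xc_inj e (by simpa [h1] using hy))
    · rw [sum_eq_single y (fun k _ hk => if_neg fun e => hk (inr_injective (hi (show π (inr k) = π (inr y) by omega))))
        (by simp), if_pos (by omega)]
      refine congrArg (Xc · s) (funext fun i => ?_)
      by_cases e : i = j <;> simp [e, hy, swap_apply_def]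
  · exact (sum_eq_zero fun k _ => if_neg (by omega)).symm

theorem Xc_dual {s : Multiset ℕ} (hs : ∀ a ∈ s, 0 < a) (σ : Perm (Fin N ⊕ Fin N)) :
    Xc (bR σ) s = sign σ • ((-1) ^ s.card * Xc (bL σ) s) := by
  induction s using Multiset.induction_on generalizing σ with
  | empty =>
    have h1 : ∀ β : Fin N → ℕ, Xc β 0 ≠ 0 → ∀ j, β j < N := fun β h j => by
      obtain ⟨τ, -, hτ⟩ := exists_ne_zero_of_sum_ne_zero (Xc_zero β ▸ h)
      obtain rfl : Fin.val ∘ τ = β := by by_contra e; simp [e] at hτ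
      exact (τ j).2
    by_cases h : Set.MapsTo σ (Set.range inl) (Set.range inl)
    · obtain ⟨⟨a, b⟩, rfl⟩ := mem_sumCongrHom_range_of_perm_mapsTo_inl h
      rw [show bR (sumCongrHom _ _ (a, b)) = Fin.val ∘ b from funext fun k => by have := (b k).2; simp [bR, pos]; omega,
        show bL (sumCongrHom _ _ (a, b)) = Fin.val ∘ a from rfl, Xc_val, Xc_val, sumCongrHom_apply, sign_sumCongr]
      simp [smul_smul, mul_right_comm]
    · rw [show Xc (bL σ) 0 = 0 from by_contra fun e => h ?_, show Xc (bR σ) 0 = 0 from by_contra fun e =>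
        h ((perm_mapsTo_inl_iff_mapsTo_inr σ).2 ?_), mul_zero, smul_zero] <;> rintro _ ⟨j, rfl⟩ <;> have := h1 _ e j <;>
        simp only [bL, bR] at this
      · rcases h2 : σ (inr j) with y | y <;> have := y.2 <;> simp [h2, pos] at * ; omega
      · rcases h2 : σ (inl j) with y | y <;> have := y.2 <;> simp [h2, pos] at * ; omega
  | cons m s ih =>
    have hm := hs m (Multiset.mem_cons_self _ _)
    have h1 := Xc_cons_swap (π := fun x => pos (σ x)) (pos_inj.comp σ.injective) (fun x v hv =>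
      σ.surjective.exists.1 (exists_pos (hv.trans_lt (pos_lt _)))) hm s
    have h2 := Xc_cons_swap (π := fun x => 2 * N - 1 - pos (σ x.swap)) (fun x y e => swap_leftInverse.injective
      (σ.injective (pos_inj (by have := pos_lt (σ x.swap); have := pos_lt (σ y.swap); simp only at e; omega))))
      (fun x v hv => by
        obtain ⟨y, hy⟩ := σ.surjective.exists.1 (exists_pos (v := 2 * N - 1 - v) (by have := pos_lt x; omega))
        exact ⟨y.swap, by simp only [swap_swap, hy] at hv ⊢; omega⟩) hm s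
    rw [show bL σ = _ from rfl] at *
    rw [show Xc (bR σ) _ = _ from h2, show Xc (bL σ) _ = _ from h1, sum_comm, mul_sum, smul_sum]
    refine sum_congr rfl fun j _ => ?_
    rw [mul_sum, smul_sum]
    refine sum_congr rfl fun k _ => ?_
    have := pos_lt (σ (inl j)); have := pos_lt (σ (inr k))
    rw [mul_ite, smul_ite, mul_zero, smul_zero]
    refine if_congr (by simp only [swap_inl, swap_inr]; omega) ?_ rfl
    have := ih (fun a ha => hs a (Multiset.mem_cons_of_mem ha)) (σ * swap (inl j) (inr k))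
    rw [map_mul, sign_swap inl_ne_inr] at this
    refine (congrArg (Xc · s) (funext fun i => ?_)).trans (this.trans (by simp [pow_succ]; rfl))
    by_cases e : i = k <;> simp [e, bR, swap_apply_def]

/-- the beads are the reflected gaps. -/
def SD (β : Fin N → ℕ) : Prop := ∃ σ, bL σ = β ∧ ∃ τ : Perm (Fin N), β ∘ τ = bR σ

theorem sum_val_le (h : γ.Injective) : ∑ i : Fin N, (i : ℕ) ≤ ∑ i, γ i := by
  have h1 := sum_range_le_sum (s := univ.image fun i => (γ i : ℤ)) (c := 0) (by simp)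
  rw [sum_image fun _ _ _ _ e => h (by simpa using e), card_image_of_injective _ fun _ _ e => h (by simpa using e), card_fin,
    sum_range] at h1
  zify
  simpa using h1

theorem lt_of_sz {n : ℕ} (hi : β.Injective) (h : Sz β n) (j : Fin N) : β j < n + N := by
  obtain ⟨N, rfl⟩ := Nat.exists_eq_succ_of_ne_zero j.pos.ne'
  have := sum_val_le (hi.comp j.succAbove_right_injective)
  rw [Sz, Fin.sum_univ_succAbove _ j, Fin.sum_univ_castSucc] at h
  simp at h this; omega

theorem SD_of {n : ℕ} (hi : β.Injective) (h : Sz β n) (hn : n ≤ N)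
    (h0 : ∀ s, (∀ a ∈ s, 0 < a) → s.sum = n → Odd (n + s.card) → Xc β s = 0) : SD β := by
  choose f hf using fun j => exists_pos (N := N) ((lt_of_sz hi h j).trans_le (by omega))
  obtain ⟨σ, hσ⟩ := Perm.exists_extending_pair inl f inl_injective fun a b e => hi (by rw [← hf, ← hf, e])
  obtain rfl : bL σ = β := funext fun j => by rw [bL, hσ, hf]
  obtain ⟨χ, hχ⟩ := exists_lab (α := Fin n) hi (by simpa)
  refine ⟨σ, rfl, hχ.exists_comp ?_⟩
  have : (chi (bR σ) : Perm (Fin n) → ℂ) = (sign σ * (-1) ^ n : ℤˣ) • chi (bL σ) := funext fun g => by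
    rw [chi, Xc_dual fun _ => g.partition.parts_pos, mul_smul, Pi.smul_apply, Pi.smul_apply, chi]
    rcases (n + g.partition.parts.card).even_or_odd with e | e
    · rcases Nat.even_or_odd n with e' | e'
      · simp [e'.neg_one_pow, ((Nat.even_add.1 e).1 e').neg_one_pow]
      · simp [e'.neg_one_pow, ((Nat.even_add'.1 e).1 e').neg_one_pow]
    · simp [h0 _ (fun _ => g.partition.parts_pos) (g.partition.parts_sum.trans (Fintype.card_fin n)) e]
  rcases Int.units_eq_one_or (sign σ * (-1) ^ n) with e | e <;> rcases hχ with h | h <;> simp [Lab, this, e, h]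

theorem Lab.sd {χ : IrrCharacter (Perm α)} (h : Lab β χ) (hN : Fintype.card α ≤ N) (hχ : SelfC χ.1) : SD β :=
  SD_of h.inj h.sz hN fun s h1 h2 h3 => by
    obtain ⟨g, rfl, hg, -⟩ := exists_parts' h1 h2
    exact (h.eq_zero_iff g).2 (hχ g (by rw [hg, h2, h3.neg_one_pow]))

theorem SD.mem_iff (h : SD β) {u v : ℕ} (huv : u + v + 1 = 2 * N) : (∃ i, β i = u) ↔ ¬ ∃ i, β i = v := by
  obtain ⟨σ, rfl, τ, h⟩ := h
  refine ⟨fun ⟨i, hi⟩ ⟨l, hl⟩ => ?_, fun h1 => ?_⟩
  · obtain ⟨k, rfl⟩ := τ.surjective l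
    have := congrFun h k; have := pos_lt (σ (inr k))
    exact inl_ne_inr (σ.injective (pos_inj (show bL σ i = pos (σ (inr k)) by simp [bR] at *; omega)))
  · obtain ⟨x | x, hx⟩ := σ.surjective.exists.1 (exists_pos (N := N) (v := u) (by omega))
    exacts [⟨x, hx⟩, (h1 ⟨τ x, (congrFun h x).trans (by rw [bR, hx]; omega)⟩).elim]

theorem mod_add_mod {u v : ℕ} (hp : 0 < p) (hN : p ∣ N) (huv : u + v + 1 = 2 * N) : u % p + v % p + 1 = p := by
  have := Nat.mod_lt u hp; have := Nat.mod_lt v hp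
  refine Nat.eq_of_dvd_of_lt_two_mul (by omega) ((Nat.dvd_add_right (dvd_mul_right p (u / p + v / p))).1 ?_) (by omega)
  have := Nat.mod_add_div u p; have := Nat.mod_add_div v p
  rw [show p * (u / p + v / p) + (u % p + v % p + 1) = 2 * N by rw [mul_add]; omega]
  exact hN.mul_left 2

theorem SD.wt_eq (h : SD β) (hN : p ∣ N) {r r' : ℕ} (hr : r + r' + 1 = p) : wt p β r' + cnt p β r * (2 * N - 1) =
    (∑ x : Fin N ⊕ Fin N, if pos x % p = r then 2 * N - 1 - pos x else 0) + wt p β r := by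
  obtain ⟨σ, rfl, τ, h⟩ := h
  rw [← Equiv.sum_comp σ, Fintype.sum_sum_type, ← wt_comp _ τ r', h, wt, wt, cnt, ← smul_eq_mul, ← sum_const, ← sum_filter,
    ← sum_filter, add_right_comm, add_comm]
  refine congrArg₂ _ ((sum_congr rfl fun j _ => by have := pos_lt (σ (inl j)); rw [bL]; omega).trans sum_add_distrib)
    (sum_congr (filter_congr fun k _ => ?_) fun _ _ => rfl)
  have := mod_add_mod (u := pos (σ (inr k))) (v := bR σ k) (by omega) hN (by have := pos_lt (σ (inr k)); rw [bR]; omega)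
  omega

variable [hp : Fact p.Prime] {χ : IrrCharacter (Perm α)}

theorem IsCore.even_of_selfC (h : IsCore p κ w (Fintype.card α)) (hχ : χ ∈ Blk α p κ) (h1 : SelfC χ.1) : Even ((p + 1) * w) := by
  obtain ⟨z, hz⟩ := h.exists_z
  refine by_contra fun e => h.apply_ne hz hχ (h1 z ?_)
  rw [sign_of_cycleType, hz, Odd.neg_one_pow (by simpa [mul_add, mul_comm] using e)]

theorem IsCore.wt_eq (h : IsCore p κ w (Fintype.card α)) (hN : p ∣ N) (hd : Mono p κ d) (hχ : Lab (κ + p • d) χ)
    (h1 : SelfC χ.1) {r r' : ℕ} (hr : r + r' + 1 = p) : ∑ j with κ j % p = r', d j = ∑ j with κ j % p = r, d j := by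
  have h2 := h.mul_le
  have h3 : SD κ := SD_of (n := Fintype.card α - p * w) h.st.1 (by have := h.sz; rw [Sz]; omega) (by have := h.le; omega)
    fun s hs h4 h5 => by
      obtain ⟨c, hc, h6⟩ := h.st.Xc_core hp.1.pos hd (h.sum_eq hχ)
      obtain ⟨g, hg, hg', -⟩ := exists_parts' (α := α) (s := Multiset.replicate w p + s) (fun a ha => (Multiset.mem_add.1 ha).elim
        (fun e => Multiset.eq_of_mem_replicate e ▸ hp.1.pos) (hs a)) (by simp [h4, mul_comm]; omega)
      have h7 := h.even_of_selfC ((h.st.mem_Blk hp.1.pos).2 ⟨d, hd, hχ⟩) h1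
      have := (hχ.eq_zero_iff g).2 (h1 g (hg'.trans (Odd.neg_one_pow (by
        convert h7.add_odd h5 using 1; simp [h4, mul_add, mul_comm]; omega))))
      rw [chi, hg, h6] at this
      simpa [hc.ne'] using this
  have h4 := h3.wt_eq hN hr
  have h5 := (hχ.sd h.le h1).wt_eq hN hr
  rw [cnt_add, wt_add, wt_add] at h5
  exact Nat.eq_of_mul_eq_mul_left hp.1.pos (by omega)

/-- the codes of the self-associate characters. -/
theorem IsCore.exists_code' (h : IsCore p κ w (Fintype.card α)) (hN : p ∣ N) :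
    ∃ f : IrrCharacter (Perm α) → Multiset (ℕ × ℕ), Set.InjOn f {χ ∈ Blk α p κ | SelfC χ.1} ∧
      ∀ χ ∈ Blk α p κ, SelfC χ.1 → (∀ x ∈ f χ, 2 * x.1 + 1 ≤ p ∧ 0 < x.2) ∧
        ((f χ).map fun x => (if 2 * x.1 + 1 = p then 1 else 2) * x.2).sum = w := by
  have hp0 := hp.1.pos
  choose! d hd using fun χ (hχ : χ ∈ Blk α p κ) => (h.st.mem_Blk hp0).1 hχ
  refine ⟨fun χ => (code p κ (d χ)).filter (2 * ·.1 + 1 ≤ p), fun χ hχ ψ hψ e => ?_, fun χ hχ h1 => ⟨fun x hx => ?_, ?_⟩⟩
  · have h1 : ∀ {χ ψ}, χ ∈ Blk α p κ → ψ ∈ Blk α p κ → (code p κ (d χ)).filter (2 * ·.1 + 1 ≤ p) =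
        (code p κ (d ψ)).filter (2 * ·.1 + 1 ≤ p) → ∀ u, 2 * (u % p) + 1 ≤ p → (∃ i, (κ + p • d χ) i = u) →
        ∃ i, (κ + p • d ψ) i = u := fun {χ ψ} hχ hψ e u hu ⟨i, hi⟩ => by
      have h2 : κ i % p = u % p := by simp [← hi]
      have := congrArg (Multiset.filter (·.1 = κ i % p)) e
      simp only [Multiset.filter_filter] at this
      rw [Multiset.filter_congr (q := (·.1 = κ i % p)) fun x _ => by omega,
        Multiset.filter_congr (q := (·.1 = κ i % p)) (s := code p κ (d ψ)) fun x _ => by omega] at this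
      exact ⟨i, by simpa [h.st.eq_of_code (hd χ hχ).1 (hd ψ hψ).1 this] using hi⟩
    obtain ⟨σ, hσ⟩ := exists_comp_of_range (β := κ + p • d ψ) (hd χ hχ.1).2.inj fun j => by
      by_cases h2 : 2 * ((κ + p • d χ) j % p) + 1 ≤ p
      · exact h1 hχ.1 hψ.1 e _ h2 ⟨j, rfl⟩
      have h3 := lt_of_sz (hd χ hχ.1).2.inj (hd χ hχ.1).2.sz j
      have h4 : (κ + p • d χ) j + (2 * N - 1 - (κ + p • d χ) j) + 1 = 2 * N := by have := h.le; omega
      have := mod_add_mod hp0 hN h4
      exact (((hd ψ hψ.1).2.sd h.le hψ.2).mem_iff h4).2 fun h5 => (((hd χ hχ.1).2.sd h.le hχ.2).mem_iff h4).1 ⟨j, rfl⟩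
        (h1 hψ.1 hχ.1 e.symm _ (by omega) h5)
    exact (hd χ hχ.1).2.unique (hσ ▸ (hd ψ hψ.1).2.comp σ)
  · obtain ⟨j, hj, rfl⟩ := mem_code.1 (Multiset.mem_of_mem_filter hx)
    exact ⟨(Multiset.mem_filter.1 hx).2, hj⟩
  · let g : ℕ → ℕ := fun r => if 2 * r + 1 ≤ p then if 2 * r + 1 = p then 1 else 2 else 0
    have h2 : ∀ f : ℕ → ℕ, ∑ j, f (κ j % p) * d χ j = ∑ r ∈ range p, f r * ∑ j with κ j % p = r, d χ j := fun f => by
      rw [← sum_fiberwise_of_maps_to (g := (κ · % p)) fun j _ => mem_range.2 (Nat.mod_lt _ hp0)]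
      exact sum_congr rfl fun r _ => by rw [mul_sum]; exact sum_congr rfl fun j hj => by rw [(mem_filter.1 hj).2]
    have h3 := sum_code (p := p) (κ := κ) (d := d χ) g
    have h4 := h2 fun _ => 2
    rw [← mul_sum, h.sum_eq (hd χ hχ).2, ← sum_congr rfl fun r hr => congrArg (· * _) (show g r + g (p - 1 - r) = 2 by
      have := mem_range.1 hr; simp only [g]; split_ifs <;> omega)] at h4
    simp only [add_mul, sum_add_distrib] at h4
    rw [← sum_range_reflect fun r => g (p - 1 - r) * _, sum_congr rfl fun r hr => congrArg₂ (· * ·) (congrArg g (show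
      p - 1 - (p - 1 - r) = r by have := mem_range.1 hr; omega)) (h.wt_eq hN (hd χ hχ).1 (hd χ hχ).2 h1 (r := r)
      (by have := mem_range.1 hr; omega)), ← h2, ← h3, ← two_mul] at h4
    rw [Nat.eq_of_mul_eq_mul_left two_pos h4, ← Multiset.filter_add_not (2 * ·.1 + 1 ≤ p) (code p κ (d χ)), Multiset.map_add,
      Multiset.sum_add, Multiset.sum_eq_zero (s := Multiset.map _ (Multiset.filter (fun _ => ¬ _) _)), add_zero]
    · exact congrArg _ (Multiset.map_congr rfl fun x hx => by simp only [g, if_pos (Multiset.mem_filter.1 hx).2])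
    · intro x hx
      obtain ⟨y, hy, rfl⟩ := Multiset.mem_map.1 hx
      simp only [g, if_neg (Multiset.mem_filter.1 hy).2, zero_mul]

end CL.Sym
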