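/-
Symmetric groups, part 8: the number of Brauer characters in a block of an alternating group.
-/
import Cfsg.Agent.Sym.Dual
import Cfsg.Agent.Blk.CycEx
import Cfsg.Agent.Blk.Knorr

set_option autoImplicit false
set_option linter.unusedSectionVars false
open Finset Equiv Equiv.Perm Cfsg CL.Char CL.Blk
open scoped Nat Pointwise

namespace CL.Sym

variable {α : Type*} [Fintype α] [DecidableEq α] {N p w : ℕ} {κ : Fin N → ℕ}

/-- the codes of `IsCore.exists_code`. -/
def Lset (p w : ℕ) : Set (Multiset (ℕ × ℕ)) := {C | (∀ x ∈ C, x.1 < p - 1 ∧ 0 < x.2) ∧ (C.map Prod.snd).sum = w}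

/-- the codes of `IsCore.exists_code'`. -/
def Gset (p w : ℕ) : Set (Multiset (ℕ × ℕ)) := {C | (∀ x ∈ C, 2 * x.1 + 1 ≤ p ∧ 0 < x.2) ∧
  (C.map fun x => (if 2 * x.1 + 1 = p then 1 else 2) * x.2).sum = w}

theorem ncard_add_le {ι κ : Type*} {S T : Set ι} {U : Set κ} (hU : U.Finite) (f g : ι → κ) (hf : S.InjOn f) (hg : T.InjOn g)
    (h1 : ∀ a ∈ S, f a ∈ U) (h2 : ∀ a ∈ T, g a ∈ U) (h3 : ∀ a ∈ S, ∀ b ∈ T, f a ≠ g b) : S.ncard + T.ncard ≤ U.ncard := by
  have h4 : f '' S ⊆ U := Set.image_subset_iff.2 h1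
  have h5 : g '' T ⊆ U := Set.image_subset_iff.2 h2
  rw [← hf.ncard_image, ← hg.ncard_image, ← Set.ncard_union_eq (Set.disjoint_left.2 ?_) (hU.subset h4) (hU.subset h5)]
  exacts [Set.ncard_le_ncard (Set.union_subset h4 h5) hU, fun _ ⟨a, ha, e⟩ ⟨b, hb, e'⟩ => h3 a ha b hb (e.trans e'.symm)]

theorem sum_erase (f : ℕ × ℕ → ℕ) {C : Multiset (ℕ × ℕ)} {x : ℕ × ℕ} (h : x ∈ C) :
    (C.map f).sum = f x + ((C.erase x).map f).sum := by
  rw [← Multiset.sum_cons, ← Multiset.map_cons, Multiset.cons_erase h]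

theorem exists_Gset_map (hp : 3 ≤ p) : ∃ g : Multiset (ℕ × ℕ) → Multiset (ℕ × ℕ), (Gset p w).InjOn g ∧
    ∀ C ∈ Gset p w, g C ∈ Mt (p - 1) (w - 1) := by
  let f : ℕ × ℕ → ℕ := fun x => (if 2 * x.1 + 1 = p then 1 else 2) * x.2
  have h1 : ∀ C ∈ Gset p w, ∃ C' ∈ Mt (p - 1) (w - 1),
      C = if (C'.map f).sum < w then (p / 2, w - (C'.map f).sum) ::ₘ C' else C' := fun C hC => by
    have h0 : ∀ x ∈ C, x.1 < p - 1 ∧ 0 < x.2 := fun x hx => by have := hC.1 x hx; omega
    by_cases h : ∃ x ∈ C, 2 * x.1 + 1 = p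
    · obtain ⟨x, hx, h⟩ := h
      have h2 : w = x.2 + ((C.erase x).map f).sum := by rw [← hC.2, sum_erase _ hx, if_pos h, one_mul]
      have h3 := Multiset.sum_map_le_sum_map (s := C.erase x) Prod.snd f fun y _ => by simp only [f]; split_ifs <;> omega
      have := h0 x hx
      refine ⟨C.erase x, ⟨fun y hy => h0 y (Multiset.mem_of_mem_erase hy), by omega⟩, ?_⟩
      rw [if_pos (by omega), show (p / 2, _) = x from Prod.ext (by simp; omega) (by simp; omega), Multiset.cons_erase hx]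
    · have h2 : w = 2 * (C.map Prod.snd).sum := by
        rw [← hC.2, ← Multiset.sum_map_mul_left]
        exact congrArg _ (Multiset.map_congr rfl fun x hx => by rw [if_neg fun e => h ⟨x, hx, e⟩])
      exact ⟨C, ⟨h0, by omega⟩, (if_neg hC.2.not_lt).symm⟩
  choose! g h1 h2 using h1
  exact ⟨g, fun C hC D hD e => by rw [h2 C hC, e, ← h2 D hD], h1⟩

theorem Gset_two {C : Multiset (ℕ × ℕ)} (h : C ∈ Gset 2 w) : C ∈ Lset 2 (w / 2) ∧ 2 * (w / 2) = w := by
  have h2 : w = 2 * (C.map Prod.snd).sum := by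
    rw [← h.2, ← Multiset.sum_map_mul_left]
    exact congrArg _ (Multiset.map_congr rfl fun x hx => by rw [if_neg (by omega)])
  exact ⟨⟨fun x hx => by have := h.1 x hx; omega, by omega⟩, by omega⟩

theorem exists_Lset_map (hw : 0 < w) : ∃ g : Multiset (ℕ × ℕ) → Multiset (ℕ × ℕ), (Lset 2 w).InjOn g ∧
    ∀ C ∈ Lset 2 w, g C ∈ Mt 1 (w - 1) ∧ ∀ x ∈ g C, x.2 + ((g C).map Prod.snd).sum ≤ w := by
  have h1 : ∀ C ∈ Lset 2 w, ∃ C', (C' ∈ Mt 1 (w - 1) ∧ ∀ x ∈ C', x.2 + (C'.map Prod.snd).sum ≤ w) ∧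
      C = (0, w - (C'.map Prod.snd).sum) ::ₘ C' := fun C hC => by
    obtain ⟨x, hx, h⟩ := exists_max_image C.toFinset Prod.snd (Multiset.toFinset_nonempty.2 fun e => hw.ne (by simpa [e] using hC.2))
    simp only [Multiset.mem_toFinset] at hx h
    have h2 := hC.2.symm.trans (sum_erase _ hx)
    have := hC.1 x hx
    refine ⟨C.erase x, ⟨⟨fun y hy => hC.1 y (Multiset.mem_of_mem_erase hy), by omega⟩, fun y hy => by
      have := h y (Multiset.mem_of_mem_erase hy); omega⟩, ?_⟩
    rw [show (0, _) = x from Prod.ext (by simp; omega) (by simp; omega), Multiset.cons_erase hx]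
  choose! g h1 h2 using h1
  exact ⟨g, fun C hC D hD e => by rw [h2 C hC, e, ← h2 D hD], h1⟩

theorem Lset_subset : Lset p w ⊆ Mt (p - 1) w := fun _ h => ⟨h.1, h.2.le⟩

theorem count_lt (hp : p.Prime) {s : ℕ} (hs : 2 ≤ s) (h1 : p ≠ 2 → w ≤ s) (h2 : w ≤ s + 1) :
    (Lset p w).ncard + (Gset p w).ncard < p ^ s := by
  have h0 : ∀ {a}, a ≤ s → p ^ a ≤ p ^ s := Nat.pow_le_pow_right hp.pos
  have hL := (Set.ncard_le_ncard (Lset_subset (p := p) (w := w)) (Mt_finite _ _)).trans (ncard_Mt_le _ _)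
  rw [Nat.sub_add_cancel hp.one_le] at hL
  rcases hp.two_le.eq_or_lt with rfl | h3
  · rcases lt_or_ge w 3 with hw | hw
    · refine lt_of_lt_of_le ?_ (h0 hs)
      rcases Nat.eq_zero_or_pos w with rfl | hw0
      · have := (Set.ncard_le_ncard (fun C (h : C ∈ Gset 2 0) => (Gset_two h).1) ((Mt_finite _ _).subset Lset_subset)).trans hL
        omega
      refine (ncard_add_le (U := Mt 1 2 \ {0}) (Mt_finite _ _).sdiff id id (Set.injOn_id _) (Set.injOn_id _)
        (fun C h => ⟨⟨h.1, h.2.trans_le (by omega)⟩, fun e => hw0.ne (by simpa [show C = 0 from e] using h.2)⟩)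
        (fun C h => ⟨⟨(Gset_two h).1.1, (Gset_two h).1.2.trans_le (by omega)⟩, fun e => hw0.ne (by
          simpa [show C = 0 from e] using h.2)⟩) fun C h D h' e => ?_).trans_lt
        ((Set.ncard_sdiff_singleton_lt_of_mem (by simp [Mt]) (Mt_finite _ _)).trans_le (ncard_Mt_le 1 2))
      have := (Gset_two h').1.2; have := h.2; rw [show C = D from e] at this; omega
    refine lt_of_lt_of_le ?_ (h0 (show w - 1 ≤ s by omega))
    obtain ⟨f, hf, hf'⟩ := exists_Lset_map (w := w) (by omega)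
    rcases hw.eq_or_lt with rfl | hw
    · rw [show Gset 2 3 = ∅ from Set.eq_empty_of_forall_notMem fun C h => absurd (Gset_two h).2 (by decide), Set.ncard_empty,
        add_zero, ← hf.ncard_image]
      refine (Set.ncard_lt_ncard ⟨Set.MapsTo.image_subset fun C h => (hf' C h).1, fun h => ?_⟩ (Mt_finite _ _)).trans_le
        (ncard_Mt_le 1 _)
      obtain ⟨C, hC, e⟩ := h (show {(0, 2)} ∈ Mt 1 (3 - 1) by simp [Mt])
      simpa [e] using (hf' C hC).2
    obtain ⟨g, hg, hg'⟩ := exists_Lset_map (w := w / 2) (by omega)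
    refine (ncard_add_le (Mt_finite 1 (w - 1)) f (fun C => (0, w - 1 - ((g C).map Prod.snd).sum) ::ₘ g C) hf
      (fun C h D h' e => hg (Gset_two h).1 (Gset_two h').1 ?_) (fun C h => (hf' C h).1) (fun C h => ?_)
      fun C h D h' e => ?_).trans_lt (ncard_Mt_lt (.inr ⟨le_rfl, by omega⟩))
    · have h3 : ∀ C ∈ Gset 2 w, ((0, w - 1 - ((g C).map Prod.snd).sum) ::ₘ g C).filter (·.2 < w / 2) = g C := fun C h => by
        have := (hg' C (Gset_two h).1).1
        have h4 := this.2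
        rw [Multiset.filter_cons_of_neg _ (by simp; omega), Multiset.filter_eq_self]
        exact fun x hx => by have := Multiset.single_le_sum (by simp) _ (Multiset.mem_map_of_mem Prod.snd hx); omega
      rw [← h3 C h, ← h3 D h']; exact congrArg _ e
    · have := (hg' C (Gset_two h).1).1
      have h4 := this.2
      exact ⟨fun x hx => (Multiset.mem_cons.1 hx).elim (fun e => by simp [e]; omega) (this.1 x), by simp; omega⟩
    · have h3 := (hf' C h).2 _ (e ▸ Multiset.mem_cons_self _ _)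
      have := (hg' D (Gset_two h').1).1.2
      rw [e, Multiset.map_cons, Multiset.sum_cons] at h3
      dsimp only at h3; omega
  · obtain ⟨g, hg, hg'⟩ := exists_Gset_map (w := w) h3
    rcases lt_or_ge w 2 with hw | hw
    · have h4 := (Set.ncard_le_ncard (Set.MapsTo.image_subset hg') (Mt_finite _ _)).trans (ncard_Mt_le _ _)
      rw [hg.ncard_image, show w - 1 = 0 by omega, pow_zero] at h4
      have := Nat.pow_le_pow_right hp.pos (show w ≤ 1 by omega)
      have := h0 hs
      nlinarith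
    refine ((ncard_add_le (Mt_finite (p - 1) w) id g (Set.injOn_id _) hg Lset_subset (fun C h => ⟨(hg' C h).1,
      (hg' C h).2.trans (Nat.sub_le _ _)⟩) fun C h D h' e => ?_).trans_lt (ncard_Mt_lt (.inl ⟨by omega, hw⟩))).trans_le ?_
    · have := (hg' D h').2; have := h.2; rw [show C = g D from e] at this; omega
    · rw [Nat.sub_add_cancel hp.one_le]; exact h0 (h1 h3.ne')

theorem blockRank_lt_of_isCyclic {G : Type*} [Group G] [Finite G] {M : Ideal AlgInt} [hp : Fact p.Prime] (hM : IsPModular p M)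
    {B : Set (IrrCharacter G)} (hB : IsPBlock M B) {D : Subgroup G} (hD : IsDefectGroup p M B D) (hc : IsCyclic D)
    (h1 : D ≠ ⊥) : blockRank p B < p := by
  have := Fintype.ofFinite G
  have : NeZero (Nat.card D) := ⟨Nat.card_pos.ne'⟩
  have := Fintype.ofFinite (Multiplicative (ZMod (Nat.card D)) →* ℂˣ)
  obtain ⟨e, he⟩ := Pair.exists_isMax_of_isDefectGroup hM hB hD
  obtain ⟨E, ψ, s, I, h, h3⟩ := exists_cyData (A := Multiplicative (ZMod (Nat.card D))) hM hB he hc h1 inferInstance (by simp)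
  have := Fintype.ofFinite E
  have := Fintype.ofFinite (cyJ E)
  rw [cy_blockRank hM hB he hc h1, ← h3]
  exact (Nat.le_of_dvd (Nat.sub_pos_of_lt hp.1.one_lt) h.card_dvd).trans_lt (Nat.sub_one_lt hp.1.ne_zero)

variable [hp : Fact p.Prime] {M : Ideal AlgInt} {b : Set (IrrCharacter (alternatingGroup α))}

theorem IsCore.blockRank_le [Nontrivial α] (h : IsCore p κ w (Fintype.card α)) (hN : p ∣ N) (hM : IsPModular p M)
    (hB : IsPBlock M (Blk α p κ)) (hb : IsPBlock M b) (hc : Covers (alternatingGroup α) (Blk α p κ) b) :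
    blockRank p b ≤ (Lset p w).ncard + (Gset p w).ncard := by
  choose θ hθ using fun ψ : IrrCharacter (Perm α) => exists_over (alternatingGroup α) ψ
  let ρ := LinearMap.funLeft ℂ ℂ (Subtype.val : alternatingGroup α → Perm α)
  have h1 : ∀ ψ : Perm α → ℂ, pRegularPart p (resA ψ) = ρ (pRegularPart p ψ) := fun ψ => funext fun g => by
    simp only [ρ, pRegularPart, IsPRegular, LinearMap.funLeft_apply, Subgroup.orderOf_coe]; congr
  refine (finrank_le_ncard (T := (fun χ : IrrCharacter (Perm α) => ρ (pRegularPart p χ.1)) '' Blk0 α p κ (p - 1) ∪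
    (fun χ => pRegularPart p (θ χ).1) '' {χ ∈ Blk α p κ | SelfC χ.1}) (Set.toFinite _) (Set.image_subset_iff.2 fun ξ hξ => ?_)).trans
    ((Set.ncard_union_le _ _).trans (Nat.add_le_add ?_ ?_))
  · obtain ⟨ψ, hψ, h2⟩ := hc.exists_over_of_mem_right hM (blockIdem_mem_OG hM hB) hb hξ
    have h3 := Submodule.span_mono (Set.subset_union_left (t := (fun χ => pRegularPart p (θ χ).1) ''
      {χ ∈ Blk α p κ | SelfC χ.1})) (Set.image_image _ _ _ ▸ Submodule.apply_mem_span_image_of_mem_span ρ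
      (h.mem_span (Nat.sub_one_lt hp.1.ne_zero) hψ))
    rw [← h1] at h3
    show pRegularPart p ξ.1 ∈ Submodule.span ℂ _
    by_cases h4 : SelfC ψ.1
    · have h5 := Submodule.subset_span (R := ℂ) (Set.mem_union_right ((fun χ : IrrCharacter (Perm α) => ρ (pRegularPart p χ.1)) ''
        Blk0 α p κ (p - 1)) (Set.mem_image_of_mem (fun χ => pRegularPart p (θ χ).1) (show ψ ∈ {χ ∈ Blk α p κ | SelfC χ.1} from
        ⟨hψ, h4⟩)))
      rcases (resA_split ψ.2 h4 (θ ψ).2 (over_iff.1 (hθ ψ))).2 ξ.1 ξ.2 (over_iff.1 h2) with e | e <;> rw [e]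
      · exact h5
      · convert sub_mem h3 h5 using 1
        exact funext fun g => by simp only [pRegularPart, Pi.sub_apply]; split_ifs <;> simp
    · rwa [← (resA_irr ψ.2 h4).eq_of_classInner_ne_zero ξ.2 (over_iff.1 h2)]
  · obtain ⟨f, hf, hf'⟩ := h.exists_code
    exact (Set.ncard_image_le (Set.toFinite _)).trans (Set.ncard_le_ncard_of_injOn f hf' hf ((Mt_finite _ _).subset Lset_subset))
  · obtain ⟨f, hf, hf'⟩ := h.exists_code' hN
    refine (Set.ncard_image_le (Set.toFinite _)).trans (Set.ncard_le_ncard_of_injOn f (fun χ hχ => hf' χ hχ.1 hχ.2) hf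
      ((Mt_finite p w).subset fun C hC => ⟨fun x hx => by have := hC.1 x hx; omega, ?_⟩))
    exact (Multiset.sum_map_le_sum_map _ _ fun y _ => by split_ifs <;> omega).trans hC.2.le

/-- the block of the symmetric group covering a given block of the alternating group. -/
theorem exists_cover (hM : IsPModular p M) (hb : IsPBlock M b) {D : Subgroup (alternatingGroup α)} (hD : IsDefectGroup p M b D)
    (hN : Fintype.card α ≤ N) : ∃ (κ : Fin N → ℕ) (w : ℕ) (P : Subgroup (Perm α)), IsCore p κ w (Fintype.card α) ∧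
      IsPBlock M (Blk α p κ) ∧ Covers (alternatingGroup α) (Blk α p κ) b ∧ IsDefectGroup p M (Blk α p κ) P ∧
      D = P.subgroupOf (alternatingGroup α) := by
  obtain ⟨B, hB, hc⟩ := exists_covering hM hb
  obtain ⟨κ, w, h, rfl⟩ := exists_isCore hM hB hN
  have h1 : (D.map (alternatingGroup α).subtype).subgroupOf _ = D := Subgroup.comap_map_eq_self_of_injective Subtype.val_injective D
  obtain ⟨P, hP, e⟩ := hc.exists_isDefectGroup_inf_eq hM hB hb (Subgroup.map_subtype_le D) (h1.symm ▸ hD)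
  exact ⟨κ, w, P, h, hB, hc, hP, by rw [← h1, ← e, Subgroup.inf_subgroupOf_right]⟩

theorem alt_blockRank_lt (hM : IsPModular p M) (hb : IsPBlock M b) {D : Subgroup (alternatingGroup α)}
    (hD : IsDefectGroup p M b D) (hD1 : D ≠ ⊥) {s : ℕ} (hs : SectionalPRankLE p s D) : blockRank p b < p ^ s := by
  have hDp : IsPGroup p D := .of_card (card_defectGroup hM hb hD)
  have h1 := one_le_of_secRank hDp hs hD1
  rcases h1.eq_or_lt with rfl | h1
  · refine (blockRank_lt_of_isCyclic hM hb hD (by_contra fun hc => ?_) hD1).trans_eq (pow_one p).symm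
    exact ((Nat.le_of_dvd (Nat.pos_of_ne_zero Subgroup.FiniteIndex.index_ne_zero) (CL.Grp.sq_dvd_index_frattini hDp hc)).trans
      (CL.Fgs.index_frattini_le_of_secRank hDp hs)).not_gt (Nat.pow_lt_pow_right hp.1.one_lt one_lt_two)
  have : Nontrivial α := by
    by_contra hn
    have := not_nontrivial_iff_subsingleton.1 hn
    exact hD1 (Subgroup.eq_bot_of_subsingleton D)
  obtain ⟨κ, w, P, h, hB, hc, hP, rfl⟩ := exists_cover (N := p * Fintype.card α) hM hb hD (Nat.le_mul_of_pos_left _ hp.1.pos)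
  obtain ⟨z, hz⟩ := h.exists_z
  obtain ⟨x, hx⟩ := h.exists_conj_le hM hB le_rfl hP hz
  have h2 : Nat.card (Ez z ⊓ alternatingGroup α : Subgroup _) ≤ p ^ s := card_le_of_secRank (D := P ⊓ alternatingGroup α)
    (CL.Fgs.secRank_of_injective hs ((Subgroup.inclusion inf_le_right).codRestrict _ fun a => a.2.1) fun a b e => Subtype.ext (congrArg (·.1.1) e))
    x ((CL.Grp.conj_smul_le_iff _ _ _).2 fun a ha => ⟨hx (CL.Grp.conj_mem_conj_smul x ha.1), Subgroup.Normal.conj_mem
      inferInstance a ha.2 x⟩) (fun _ ha _ hb => have := Ez_comm z; setLike_mul_comm ha.1 hb.1) fun _ ha => Ez_pow hz ha.1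
  have h3 := CL.Grp.card_mul_relIndex (inf_le_left : Ez z ⊓ alternatingGroup α ≤ _)
  have h4 : (alternatingGroup α).relIndex (Ez z) ∣ 2 :=
    alternatingGroup.index_eq_two (α := α) ▸ Subgroup.relIndex_dvd_index_of_normal _ _
  rw [card_Ez hz, Subgroup.inf_relIndex_left, mul_comm] at h3
  refine (h.blockRank_le (dvd_mul_right _ _) hM hB hb hc).trans_lt (count_lt hp.1 h1 (fun h5 => ?_) ?_)
  · rcases (Nat.dvd_prime Nat.prime_two).1 h4 with e | e <;> rw [e] at h3
    · exact (Nat.pow_le_pow_iff_right hp.1.one_lt).1 (by omega)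
    · exact (h5 ((Nat.prime_dvd_prime_iff_eq Nat.prime_two hp.1).1 (Nat.prime_two.dvd_of_dvd_pow (Dvd.intro _ h3))).symm).elim
  · refine (Nat.pow_le_pow_iff_right hp.1.one_lt).1 (h3 ▸ ?_)
    rw [pow_succ']
    exact Nat.mul_le_mul ((Nat.le_of_dvd two_pos h4).trans hp.1.two_le) h2

end CL.Sym
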